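/-
Sets meeting each line of the 112 points in two points, found by a checked search tree.
-/
import Cfsg.Agent.Lib.McLRecog.Data

set_option autoImplicit false
set_option maxRecDepth 20000

namespace CfsgLib.McLRecog

open CfsgPC

/-- The point `t` of line `j`. -/
def lp (j t : ℕ) : ℕ := ap lineCode (4 * j + t)

def bitv (m p : ℕ) : ℕ := if m.testBit p then 1 else 0

/-- How many points of line `j` the mask holds. -/
def cnt4 (m j : ℕ) : ℕ := bitv m (lp j 0) + bitv m (lp j 1) + bitv m (lp j 2) + bitv m (lp j 3)

/-- Add a point to the second mask unless it is in the first. -/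
def addOne (a o p : ℕ) : ℕ := if a.testBit p then o else o ||| (1 <<< p)

/-- Add the points of line `j` outside the first mask to the second. -/
def addRest (a o j : ℕ) : ℕ := addOne a (addOne a (addOne a (addOne a o (lp j 0)) (lp j 1)) (lp j 2)) (lp j 3)

/-- The consequences of a line. -/
def force (i o j : ℕ) : Option (ℕ × ℕ) :=
  if 2 ≤ cnt4 i j then some (i, addRest i o j)
  else if 2 ≤ cnt4 o j then some (addRest o i j, o) else none

/-- The consequences of a packed list of lines. -/
def runF : ℕ → ℕ → ℕ → ℕ → Option (ℕ × ℕ)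
  | 0, fs, i, o => if Nat.beq fs 0 then some (i, o) else none
  | n + 1, fs, i, o =>
    if Nat.beq fs 0 then some (i, o)
    else if Nat.blt (fs % 512 - 1) 280 then
      match force i o (fs % 512 - 1) with
      | none => none
      | some p => runF n (fs / 512) p.1 p.2
    else none

inductive HTree where
  | leaf (fs j k : ℕ)
  | bad (fs l : ℕ)
  | split (fs p : ℕ) (a b : HTree)

def classMask (j k : ℕ) : ℕ := (classMasks.getD j []).getD k 0

def HTree.check : HTree → ℕ → ℕ → Bool
  | .leaf fs j k, i, o =>
    match runF 300 fs i o with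
    | none => false
    | some q => Nat.blt j 4 && Nat.blt k 162 && Nat.beq q.1 (classMask j k)
  | .bad fs l, i, o =>
    match runF 300 fs i o with
    | none => false
    | some q => Nat.blt l 280 && (Nat.ble 3 (cnt4 q.1 l) || Nat.ble 3 (cnt4 q.2 l))
  | .split fs p a b, i, o =>
    match runF 300 fs i o with
    | none => false
    | some q => a.check (q.1 ||| (1 <<< p)) q.2 && b.check q.1 (q.2 ||| (1 <<< p))

/-- The set of a mask. -/
def setN (m : ℕ) : Finset ℕ := (Finset.range 275).filter fun p => m.testBit p = true

/-- A hemisystem. -/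
structure Hemi (S : Finset ℕ) : Prop where
  sub : S ⊆ Finset.range 275
  card : S.card = 56
  line : ∀ j < 280, ∀ u : ℕ → ℕ, (∀ p ∈ S, u p = 1) → (∀ p ∉ S, u p = 0) →
    u (lp j 0) + u (lp j 1) + u (lp j 2) + u (lp j 3) = 2

/-- The first mask lies inside, the second outside. -/
def Inv (S : Finset ℕ) (i o : ℕ) : Prop :=
  (∀ p, i.testBit p = true → p ∈ S) ∧ ∀ p, o.testBit p = true → p ∉ S

theorem testBit_shl_one {p q : ℕ} (h : (1 <<< p).testBit q = true) : q = p := by
  rw [Nat.shiftLeft_eq, one_mul, Nat.testBit_two_pow] at h
  exact (decide_eq_true_eq.mp h).symm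

theorem addOne_spec {T : ℕ → Prop} {a o p : ℕ} (h : ∀ q, o.testBit q = true → T q)
    (hp : a.testBit p = false → T p) : ∀ q, (addOne a o p).testBit q = true → T q := by
  intro q hq
  unfold addOne at hq
  split at hq
  · exact h q hq
  · rename_i hap
    rw [Nat.testBit_or, Bool.or_eq_true] at hq
    rcases hq with hq | hq
    · exact h q hq
    · exact testBit_shl_one hq ▸ hp (by simpa using hap)

theorem addRest_spec {T : ℕ → Prop} {a o j : ℕ} (h : ∀ q, o.testBit q = true → T q)
    (hp : ∀ t < 4, a.testBit (lp j t) = false → T (lp j t)) : ∀ q, (addRest a o j).testBit q = true → T q :=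
  addOne_spec (addOne_spec (addOne_spec (addOne_spec h (hp 0 (by norm_num))) (hp 1 (by norm_num)))
    (hp 2 (by norm_num))) (hp 3 (by norm_num))

section

variable {S : Finset ℕ} (hS : Hemi S)

include hS

theorem line_in {m j : ℕ} (hj : j < 280) (hm : ∀ p, m.testBit p = true → p ∈ S) : cnt4 m j ≤ 2 ∧
    (2 ≤ cnt4 m j → ∀ t < 4, m.testBit (lp j t) = false → lp j t ∉ S) := by
  classical
  have h := hS.line j hj (fun p => if p ∈ S then 1 else 0) (fun p hp => if_pos hp) (fun p hp => if_neg hp)
  have key : ∀ p, bitv m p ≤ (if p ∈ S then 1 else 0) ∧ (m.testBit p = false → bitv m p = 0) := fun p => by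
    unfold bitv
    constructor
    · by_cases hb : m.testBit p = true
      · rw [if_pos hb, if_pos (hm p hb)]
      · rw [if_neg hb]; exact Nat.zero_le _
    · intro hb; rw [hb]; simp
  have k0 := key (lp j 0); have k1 := key (lp j 1); have k2 := key (lp j 2); have k3 := key (lp j 3)
  beta_reduce at h
  unfold cnt4
  refine ⟨by omega, fun h2 t ht hb hmem => ?_⟩
  have := (key (lp j t)).2 hb
  have h1 : (if lp j t ∈ S then 1 else 0) = 1 := if_pos hmem
  interval_cases t <;> omega

theorem line_out {m j : ℕ} (hj : j < 280) (hm : ∀ p, m.testBit p = true → p ∉ S) : cnt4 m j ≤ 2 ∧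
    (2 ≤ cnt4 m j → ∀ t < 4, m.testBit (lp j t) = false → lp j t ∈ S) := by
  classical
  have h := hS.line j hj (fun p => if p ∈ S then 1 else 0) (fun p hp => if_pos hp) (fun p hp => if_neg hp)
  have key : ∀ p, bitv m p + (if p ∈ S then 1 else 0) ≤ 1 ∧ (m.testBit p = false → bitv m p = 0) := fun p => by
    unfold bitv
    constructor
    · by_cases hb : m.testBit p = true
      · rw [if_pos hb, if_neg (hm p hb)]
      · rw [if_neg hb]; split <;> omega
    · intro hb; rw [hb]; simp
  have k0 := key (lp j 0); have k1 := key (lp j 1); have k2 := key (lp j 2); have k3 := key (lp j 3)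
  beta_reduce at h
  unfold cnt4
  refine ⟨by omega, fun h2 t ht hb => ?_⟩
  by_contra hmem
  have := (key (lp j t)).2 hb
  have h1 : (if lp j t ∈ S then 1 else 0) = 0 := if_neg hmem
  interval_cases t <;> omega

theorem force_spec {i o j : ℕ} (hj : j < 280) (hI : Inv S i o) {q : ℕ × ℕ} (h : force i o j = some q) :
    Inv S q.1 q.2 := by
  unfold force at h
  split at h
  · rename_i h2
    cases h
    exact ⟨hI.1, addRest_spec hI.2 ((line_in hS hj hI.1).2 h2)⟩
  · split at h
    · rename_i h2
      cases h
      exact ⟨addRest_spec hI.1 ((line_out hS hj hI.2).2 h2), hI.2⟩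
    · cases h

theorem runF_spec : ∀ {n fs i o : ℕ}, Inv S i o → ∀ {q : ℕ × ℕ}, runF n fs i o = some q → Inv S q.1 q.2 := by
  intro n
  induction n with
  | zero =>
    intro fs i o hI q h
    unfold runF at h
    split at h
    · cases h; exact hI
    · cases h
  | succ n ih =>
    intro fs i o hI q h
    unfold runF at h
    split at h
    · cases h; exact hI
    · split at h
      · rename_i hlt
        cases hf : force i o (fs % 512 - 1) with
        | none => rw [hf] at h; cases h
        | some p =>
          rw [hf] at h
          exact ih (force_spec hS (by simpa [Nat.blt_eq] using hlt) hI hf) h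
      · cases h

/-- A checked tree puts every hemisystem in one of the classes. -/
theorem HTree.sound (hc : ∀ j < 4, ∀ k < 162, (setN (classMask j k)).card = 56) :
    ∀ (T : HTree) {i o : ℕ}, T.check i o = true → Inv S i o → ∃ j < 4, ∃ k < 162, S = setN (classMask j k) := by
  intro T
  induction T with
  | leaf fs j k =>
    intro i o h hI
    unfold HTree.check at h
    cases hr : runF 300 fs i o with
    | none => rw [hr] at h; cases h
    | some q =>
      rw [hr] at h
      simp only [Bool.and_eq_true, Nat.blt_eq] at h
      obtain ⟨⟨hj, hk⟩, he⟩ := h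
      refine ⟨j, hj, k, hk, (Finset.eq_of_subset_of_card_le (fun p hp => ?_) (by rw [hc j hj k hk, hS.card])).symm⟩
      rw [setN, Finset.mem_filter] at hp
      exact (runF_spec hS hI hr).1 p ((Nat.eq_of_beq_eq_true he).symm ▸ hp.2)
  | bad fs l =>
    intro i o h hI
    unfold HTree.check at h
    cases hr : runF 300 fs i o with
    | none => rw [hr] at h; cases h
    | some q =>
      rw [hr] at h
      simp only [Bool.and_eq_true, Bool.or_eq_true, Nat.blt_eq, Nat.ble_eq] at h
      have h1 := (line_in hS h.1 (runF_spec hS hI hr).1).1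
      have h2 := (line_out hS h.1 (runF_spec hS hI hr).2).1
      exact absurd h.2 (by omega)
  | split fs p a b iha ihb =>
    intro i o h hI
    unfold HTree.check at h
    cases hr : runF 300 fs i o with
    | none => rw [hr] at h; cases h
    | some q =>
      rw [hr] at h
      simp only [Bool.and_eq_true] at h
      obtain ⟨h1, h2⟩ := runF_spec hS hI hr
      by_cases hp : p ∈ S
      · refine iha h.1 ⟨fun x hx => ?_, h2⟩
        rw [Nat.testBit_or, Bool.or_eq_true] at hx
        rcases hx with hx | hx
        · exact h1 x hx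
        · exact testBit_shl_one hx ▸ hp
      · refine ihb h.2 ⟨h1, fun x hx => ?_⟩
        rw [Nat.testBit_or, Bool.or_eq_true] at hx
        rcases hx with hx | hx
        · exact h2 x hx
        · exact testBit_shl_one hx ▸ hp

end

end CfsgLib.McLRecog
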