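/-
The tests run on the data of the graph on 275 points.
-/
import Cfsg.Agent.Lib.McLRecog.Search
import Cfsg.Agent.Lib.McLPoint.Data

set_option autoImplicit false
set_option maxRecDepth 20000

namespace CfsgLib.McLRecog

open CfsgPC

def rowAt (i : ℕ) : ℕ := adjRows.getD i 0

/-- Adjacency. -/
def adj (i j : ℕ) : Bool := (rowAt i).testBit j

def full275 : ℕ := 2 ^ 275 - 1

/-- Two rows correspond under a code. -/
def rowInv (r r' c : ℕ) : Bool := (List.range 275).all fun j => r.testBit j == r'.testBit (ap c j)

/-- A code preserves adjacency. -/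
def invOK (c : ℕ) : Bool := (List.range 275).all fun i => rowInv (rowAt i) (rowAt (ap c i)) c

/-- Follow a list of steps from a set of reached indices. -/
def reachFrom (step : ℕ → ℕ → ℕ → Bool) : List (ℕ × ℕ × ℕ) → ℕ → Option ℕ
  | [], seen => some seen
  | e :: es, seen =>
    if seen.testBit e.2.1 && step e.1 e.2.1 e.2.2 then reachFrom step es (seen ||| (1 <<< e.1)) else none

def reachesTo (step : ℕ → ℕ → ℕ → Bool) (r : List (ℕ × ℕ × ℕ)) (start goal : ℕ) : Bool :=
  match reachFrom step r (1 <<< start) with
  | none => false
  | some m => Nat.beq m goal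

/-- A step by one of the codes. -/
def pointStep (cs : List ℕ) (c p g : ℕ) : Bool := Nat.blt g cs.length && Nat.beq (ap (cs.getD g 0) p) c

def lineMask (j : ℕ) : ℕ :=
  (1 <<< lp j 0) ||| (1 <<< lp j 1) ||| (1 <<< lp j 2) ||| (1 <<< lp j 3)

/-- A step between lines. -/
def lineStep (c p g : ℕ) : Bool :=
  Nat.blt g 2 && (List.range 4).all fun t =>
    (List.range 4).any fun s => Nat.beq (ap (McLPoint.lifts.getD g (0, 0)).1 (lp p t)) (lp c s)

/-- A step between the sets of a class. -/
def classStep (j c p g : ℕ) : Bool :=
  Nat.blt g 2 && rowInv (classMask j p) (classMask j c) (McLPoint.lifts.getD g (0, 0)).1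

def maskOf (l : List ℕ) : ℕ := l.foldl (fun m p => m ||| (1 <<< p)) 0

/-- Lines have four points, all adjacent to the first point and to each other. -/
def lineOK (j : ℕ) : Bool :=
  (List.range 4).all fun t => Nat.blt (lp j t) 275 && adj 0 (lp j t) &&
    (List.range 4).all fun s => Nat.beq s t || (adj (lp j t) (lp j s) && !Nat.beq (lp j t) (lp j s))

/-- An automorphism of the neighbours. -/
def tauOK (e : ℕ × ℕ) : Bool :=
  isPerm 275 e.1 e.2 &&
    (List.range 275).all fun a =>
      adj 0 (ap e.1 a) == adj 0 a &&
        (!adj 0 a || rowInv (rowAt a &&& rowAt 0) (rowAt (ap e.1 a) &&& rowAt 0) e.1)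

/-- A set of a class is the image of a trace. -/
def classOK (j k : ℕ) : Bool :=
  (List.range 275).all fun p =>
    (classMask j k).testBit p ==
      (rowAt 0 &&& rowAt (farList.getD k 0)).testBit (ap (taus.getD j (0, 0)).1 p)

/-- The points with the same adjacencies as `v` to the listed points. -/
def candMask (v : ℕ) (ws : List ℕ) : ℕ :=
  ws.foldl (fun m w => m &&& (if (rowAt w).testBit v then rowAt w else full275 ^^^ rowAt w)) full275

/-- The number of possible images of the base point `j`. -/
def candCount (j : ℕ) : ℕ :=
  (List.range 275).countP fun u =>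
    (candMask (autBase.getD j 0) (autBase.take j)).testBit u && !((autBase.take j).contains u)

/-- Each further point is the only new one with its adjacencies to some earlier ones. -/
def witOK : List (ℕ × List ℕ) → ℕ → Bool
  | [], known => Nat.beq known full275
  | e :: es, known =>
    e.2.all (fun w => known.testBit w) && Nat.beq (candMask e.1 e.2 ||| known) (known ||| (1 <<< e.1)) &&
      witOK es (known ||| (1 <<< e.1))

end CfsgLib.McLRecog
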