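/-
Kernel checks for the graph on 275 points.
-/
import Cfsg.Agent.Lib.McLRecog.Defs
import Cfsg.Agent.Lib.Leech.McLPermData
import Cfsg.Agent.Lib.PermChain.Closed

set_option autoImplicit false
set_option maxRecDepth 30000
set_option maxHeartbeats 2000000

namespace CfsgLib.McLRecog

open CfsgPC CfsgLeech.Models

theorem inv_x : invOK (mclRigid.gens.getD 0 0) = true := by decide +kernel

theorem inv_y : invOK (mclRigid.gens.getD 1 0) = true := by decide +kernel

theorem inv_s : invOK (mclRigid.gens.getD 2 0) = true := by decide +kernel

theorem row_zero : ((List.range 275).all fun j => adj 0 j == adj j 0) = true ∧ adj 0 0 = false ∧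
    ((List.range 275).countP fun j => adj 0 j) = 112 ∧ adj 0 k0 = true ∧ k0 < 275 := by decide +kernel

theorem point_reach : reachesTo (pointStep mclRigid.gens) pointReach 0 full275 = true := by decide +kernel

theorem near_reach : reachesTo (pointStep (McLPoint.lifts.map Prod.fst)) nearReach k0 (rowAt 0) = true := by
  decide +kernel

theorem far_list : farList.length = 162 ∧
    reachesTo (pointStep (McLPoint.lifts.map Prod.fst)) farReach (farList.getD 0 0) (maskOf farList) = true ∧
    Nat.beq (maskOf farList ||| rowAt 0 ||| 1) full275 = true ∧
    ((List.range 162).all fun k => Nat.blt (farList.getD k 0) 275 && !adj 0 (farList.getD k 0) &&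
      !Nat.beq (farList.getD k 0) 0) = true := by decide +kernel

theorem lines_good : ((List.range 280).all lineOK) = true := by decide +kernel

theorem lines_apart : ((List.range 113).all fun i => (List.range i).all fun j =>
    !Nat.beq (lineMask i) (lineMask j)) = true := by decide +kernel

theorem line_reach : line0 < 280 ∧ reachesTo lineStep lineReach line0 (2 ^ 280 - 1) = true := by decide +kernel

theorem p_gens : (pGens.all fun e => isPerm 275 e.1 e.2 && sift 275 mclChain e.1 && Nat.beq (ap e.1 0) 0 &&
    Nat.beq (ap e.1 k0) k0) = true := by decide +kernel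

theorem p_shape : shapeOK 275 pChain (pGens.map Prod.fst) = true ∧ pChain.length = 2 ∧
    (pChain.map fun L => L.tr.length) = [81, 9] ∧ sizeOfChain pChain = 729 ∧
    ((gensAt 275 pChain (pGens.map Prod.fst) 2).all fun c => (List.range 275).all fun i => Nat.beq (ap c i) i) = true := by
  decide +kernel

theorem p_entries : entriesOK 275 pChain (pGens.map Prod.fst) 0 0 81 = true ∧
    entriesOK 275 pChain (pGens.map Prod.fst) 1 0 9 = true := by decide +kernel

theorem p_closed : closedOK 275 pChain (pGens.map Prod.fst) 0 0 81 = true ∧
    closedOK 275 pChain (pGens.map Prod.fst) 1 0 9 = true := by decide +kernel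

theorem p_orbits : ((List.range 4).all fun a =>
    reachesTo (pointStep (pGens.map Prod.fst)) (pReach.getD a []) ((pOrbs.getD a []).getD 0 0)
      (maskOf (pOrbs.getD a [])) && (pOrbs.getD a []).all (fun p => Nat.blt p 275)) = true ∧
    (pOrbs.map List.length) = [1, 3, 27, 81] ∧ pOrbs.getD 0 [] = [k0] ∧
    Nat.beq (maskOf pOrbs.flatten) (rowAt 0) = true ∧
    Nat.beq (maskOf (k0 :: pOrbs.getD 1 [])) (lineMask line0) = true ∧
    Nat.beq (maskOf (pOrbs.getD 1 [] ++ pOrbs.getD 2 [])) (rowAt 0 &&& rowAt k0) = true ∧
    pOrbs.flatten.Nodup := by decide +kernel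

theorem common_near : ((List.range 275).countP fun z => adj 0 z && adj k0 z) = 30 ∧
    ((List.range 275).all fun b => !(adj 0 b && adj k0 b) ||
      Nat.beq ((List.range 275).countP fun z => adj 0 z && adj k0 z && adj b z) 2) = true := by decide +kernel

theorem common_far : ((List.range 275).countP fun z => adj (farList.getD 0 0) z && adj 0 z) = 56 ∧
    ((List.range 275).countP fun z => adj (farList.getD 0 0) z && !adj 0 z && !Nat.beq z 0) = 56 ∧
    ((List.range 275).all fun d => adj 0 d || Nat.beq d 0 || Nat.beq d (farList.getD 0 0) ||
      adj (farList.getD 0 0) d ||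
        Nat.ble 31 ((List.range 275).countP fun z => adj 0 z && adj (farList.getD 0 0) z && adj d z)) = true := by
  decide +kernel

theorem taus_ok : taus.length = 4 ∧ (taus.all tauOK) = true := by decide +kernel

theorem classes_ok : ((List.range 4).all fun j => (List.range 162).all fun k => classOK j k) = true := by
  decide +kernel

theorem class_reach : ((List.range 4).all fun j =>
    reachesTo (classStep j) (classReach.getD j []) 0 (2 ^ 162 - 1)) = true := by decide +kernel

theorem aut_counts : autBase.length = 7 ∧ autCounts.length = 7 ∧ (autBase.all fun b => Nat.blt b 275) = true ∧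
    ((List.range 7).all fun j => Nat.beq (candCount j) (autCounts.getD j 0)) = true ∧
    autCounts.prod = 1796256000 := by decide +kernel

theorem aut_wit : witOK autWit (maskOf autBase) = true ∧ (autWit.all fun e => Nat.blt e.1 275) = true := by
  decide +kernel

end CfsgLib.McLRecog
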