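/-
The sets of a class are distinct.
-/
import Cfsg.Agent.Lib.McLRecog.Search

set_option autoImplicit false
set_option maxRecDepth 30000
set_option maxHeartbeats 2000000

namespace CfsgLib.McLRecog

theorem class_nodup : (classMasks.all fun l => decide l.Nodup && l.all fun m => Nat.blt m (2 ^ 275)) = true ∧
    classMasks.length = 4 ∧ (classMasks.all fun l => Nat.beq l.length 162) = true := by
  decide +kernel

end CfsgLib.McLRecog
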