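/-
Kernel check of the search tree.
-/
import Cfsg.Agent.Lib.McLRecog.TreeData

set_option autoImplicit false
set_option maxRecDepth 30000
set_option maxHeartbeats 2000000

namespace CfsgLib.McLRecog

theorem tree_ok : hemiTree.check 0 0 = true := by decide +kernel

theorem class_cards : ((List.range 4).all fun j => (List.range 162).all fun k =>
    Nat.beq ((List.range 275).countP fun p => (classMask j k).testBit p) 56) = true := by decide +kernel

end CfsgLib.McLRecog
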