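/-
The graph on 275 points, its automorphisms and the point stabiliser in the McLaughlin group.
-/
import Cfsg.Agent.Lib.McLRecog.Checks
import Cfsg.Agent.Lib.McLRecog.SearchChecks
import Cfsg.Agent.Lib.McLPoint.Main
import Cfsg.Agent.Lib.Leech.SporTransfer

set_option autoImplicit false
set_option maxRecDepth 30000
set_option linter.style.haveILetI false

namespace CfsgLib.McLRecog

open Equiv Cfsg CfsgPC CfsgLeech CfsgLeech.Models
open scoped Pointwise

attribute [local irreducible] adjRows classMasks taus farList pGens pOrbs pReach pChain nearReach farReach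
  lineReach classReach pointReach autBase autCounts autWit lineCode hemiTree full275
  CfsgGolay.codeL CfsgGolay.octadL CfsgGolay.dodecadL CfsgGolay.slpCodes mclPts mclWords mclCodes mclCodesInv
  mclFixed mclPaths0 mclPaths1 mclPaths2 mclSlp mclChain McLPoint.lifts McLPoint.lines U43Mult.gens U43Mult.chain

abbrev V := Fin 275

/-- Adjacency. -/
def Adj (i j : V) : Prop := adj i j = true

instance (i j : V) : Decidable (Adj i j) := inferInstanceAs (Decidable (adj i j = true))

def nb (i : V) : Finset V := Finset.univ.filter (Adj i)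

theorem mem_nb {i j : V} : j ∈ nb i ↔ Adj i j := by simp [nb]

theorem apply_inv (g : Perm V) (x : V) : g (g⁻¹ x) = x := g.apply_symm_apply x

theorem adjRows_len : adjRows.length = 275 := by with_unfolding_all rfl

/-- The points of a mask. -/
def setV (m : ℕ) : Finset V := Finset.univ.filter fun i => m.testBit (i : ℕ) = true

theorem mem_setV {m : ℕ} {i : V} : i ∈ setV m ↔ m.testBit (i : ℕ) = true := by simp [setV]

theorem setV_rowAt (i : V) : setV (rowAt i) = nb i := rfl

theorem countP_range (n : ℕ) (P : ℕ → Bool) :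
    (List.range n).countP P = (Finset.univ.filter fun i : Fin n => P i = true).card := by
  rw [List.countP_eq_length_filter, ← List.toFinset_card_of_nodup (List.nodup_range.filter _),
    ← Finset.card_map Fin.valEmbedding]
  congr 1
  ext x
  simp only [List.toFinset_filter, List.toFinset_range, Finset.mem_filter, Finset.mem_range, Finset.mem_map,
    Finset.mem_univ, true_and, Fin.valEmbedding_apply]
  exact ⟨fun ⟨hx, hP⟩ => ⟨⟨x, hx⟩, hP, rfl⟩, fun ⟨i, hi, e⟩ => e ▸ ⟨i.2, hi⟩⟩

theorem testBit_maskOf (l : List ℕ) (p : ℕ) : (maskOf l).testBit p = true ↔ p ∈ l := by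
  have key : ∀ (l : List ℕ) (m : ℕ), (l.foldl (fun m p => m ||| (1 <<< p)) m).testBit p = true ↔
      m.testBit p = true ∨ p ∈ l := by
    intro l
    induction l with
    | nil => simp
    | cons a l ih =>
      intro m
      rw [List.foldl_cons, ih, Nat.testBit_or, Bool.or_eq_true, List.mem_cons, Nat.shiftLeft_eq, one_mul,
        Nat.testBit_two_pow, decide_eq_true_eq]
      tauto
  simp [maskOf, key]

theorem reach_sound {step : ℕ → ℕ → ℕ → Bool} {r : List (ℕ × ℕ × ℕ)} {start goal : ℕ}
    (h : reachesTo step r start goal = true) (P : ℕ → Prop) (h0 : P start)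
    (hstep : ∀ c p g, step c p g = true → P p → P c) : ∀ i, goal.testBit i = true → P i := by
  have key : ∀ (r : List (ℕ × ℕ × ℕ)) (s m : ℕ), reachFrom step r s = some m →
      (∀ i, s.testBit i = true → P i) → ∀ i, m.testBit i = true → P i := by
    intro r
    induction r with
    | nil => intro s m hm hs; simp only [reachFrom, Option.some.injEq] at hm; exact hm ▸ hs
    | cons e es ih =>
      intro s m hm hs
      rw [reachFrom] at hm
      split at hm
      · rename_i hc
        rw [Bool.and_eq_true] at hc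
        refine ih _ _ hm fun i hi => ?_
        rw [Nat.testBit_or, Bool.or_eq_true] at hi
        rcases hi with hi | hi
        · exact hs i hi
        · exact testBit_shl_one hi ▸ hstep _ _ _ hc.2 (hs _ hc.1)
      · cases hm
  unfold reachesTo at h
  cases hm : reachFrom step r (1 <<< start) with
  | none => rw [hm] at h; cases h
  | some m =>
    rw [hm] at h
    exact Nat.eq_of_beq_eq_true h ▸ key r _ m hm fun i hi => testBit_shl_one hi ▸ h0

theorem full_testBit {i : ℕ} (hi : i < 275) : full275.testBit i = true := by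
  with_unfolding_all simp only [full275, Nat.testBit_two_pow_sub_one, decide_eq_true_eq]
  exact hi

/-! ### The group -/

noncomputable abbrev M : Subgroup (Perm V) := genG 275 mclRigid.gens

theorem valid_M : Valid 275 mclRigid.gens := mcl_model.1

theorem card_M : Nat.card M = 898128000 := mcl_model.2.1.card.trans mcl_size

theorem iso_M : Nonempty (↥Spor.McL ≃* M) := by
  obtain ⟨e1⟩ := spor_mcl_equiv
  obtain ⟨-, -, ⟨e2⟩⟩ := mcl_model
  exact ⟨e1.trans e2⟩

/-- The automorphisms of the graph. -/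
def AutG : Subgroup (Perm V) where
  carrier := {h | ∀ i j, Adj (h i) (h j) ↔ Adj i j}
  one_mem' := fun _ _ => Iff.rfl
  mul_mem' := fun {g h} hg hh i j => (hg (h i) (h j)).trans (hh i j)
  inv_mem' := fun {g} hg i j => by
    rw [← hg (g⁻¹ i) (g⁻¹ j), apply_inv, apply_inv]

theorem aut_adj {g : Perm V} (hg : g ∈ AutG) (i j : V) : Adj (g i) (g j) ↔ Adj i j := hg i j

theorem rowInv_spec {r r' c : ℕ} {g : Perm V} (hg : Rep 275 c g) (h : rowInv r r' c = true) (j : V) :
    j ∈ setV r ↔ g j ∈ setV r' := by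
  have := List.all_eq_true.mp h j (List.mem_range.mpr j.2)
  rw [hg j, beq_iff_eq] at this
  rw [mem_setV, mem_setV, this]

theorem M_le_AutG : M ≤ AutG := by
  refine (Subgroup.closure_le _).mpr ?_
  rintro g ⟨c, hc, hg⟩ i j
  have h : invOK c = true := by
    obtain ⟨k, hk, rfl⟩ := List.getElem_of_mem hc
    rw [← List.getD_eq_getElem (d := 0) _ hk]
    have hk3 : k < 3 := hk
    interval_cases k
    · exact inv_x
    · exact inv_y
    · exact inv_s
  have := List.all_eq_true.mp h i (List.mem_range.mpr i.2)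
  rw [hg i] at this
  have e := rowInv_spec hg this j
  rw [setV_rowAt, setV_rowAt, mem_nb, mem_nb] at e
  exact e.symm

theorem pointStep_spec {cs : List ℕ} (hv : Valid 275 cs) {c p g : ℕ} (h : pointStep cs c p g = true) :
    ∃ t ∈ genG 275 cs, ∀ hp : p < 275, ((t ⟨p, hp⟩ : V) : ℕ) = c := by
  simp only [pointStep, Bool.and_eq_true, Nat.blt_eq] at h
  have hm : cs.getD g 0 ∈ cs := by
    rw [List.getD_eq_getElem _ _ h.1]; exact List.getElem_mem _
  obtain ⟨t, ht⟩ := hv _ hm
  exact ⟨t, Subgroup.subset_closure ⟨_, hm, ht⟩, fun hp => by rw [← ht ⟨p, hp⟩]; exact Nat.eq_of_beq_eq_true h.2⟩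

/-- Orbits from reach data. -/
theorem reach_orbit {cs : List ℕ} (hv : Valid 275 cs) {r : List (ℕ × ℕ × ℕ)} {start goal : ℕ} (hs : start < 275)
    (h : reachesTo (pointStep cs) r start goal = true) (i : V) (hi : i ∈ setV goal) :
    ∃ t ∈ genG 275 cs, t ⟨start, hs⟩ = i := by
  obtain ⟨hlt, t, ht, e⟩ := reach_sound h
    (fun q => ∃ hq : q < 275, ∃ t ∈ genG 275 cs, t ⟨start, hs⟩ = ⟨q, hq⟩) ⟨hs, 1, one_mem _, rfl⟩
    (fun c p g hcs ⟨hp, t, ht, e⟩ => by
      obtain ⟨u, hu, hue⟩ := pointStep_spec hv hcs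
      exact ⟨hue hp ▸ (u ⟨p, hp⟩).2, u * t, mul_mem hu ht, Fin.ext (by rw [Perm.mul_apply, e]; exact hue hp)⟩)
    i (mem_setV.mp hi)
  exact ⟨t, ht, e.trans (Fin.ext rfl)⟩

theorem trans_M (i : V) : ∃ g ∈ M, g 0 = i :=
  reach_orbit valid_M (by norm_num) point_reach i (mem_setV.mpr (full_testBit i.2))

theorem adj_irrefl (i : V) : ¬ Adj i i := by
  obtain ⟨g, hg, rfl⟩ := trans_M i
  rw [aut_adj (M_le_AutG hg)]
  intro h
  have h0 : adj 0 0 = true := h
  rw [row_zero.2.1] at h0
  cases h0

theorem adj_symm {i j : V} (h : Adj i j) : Adj j i := by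
  obtain ⟨g, hg, rfl⟩ := trans_M i
  rw [← apply_inv g j] at h ⊢
  rw [aut_adj (M_le_AutG hg)] at h ⊢
  have := List.all_eq_true.mp row_zero.1 ((g⁻¹ j : V) : ℕ) (List.mem_range.mpr (g⁻¹ j).2)
  rw [beq_iff_eq] at this
  exact this.symm.trans h

theorem adj_comm {i j : V} : Adj i j ↔ Adj j i := ⟨adj_symm, adj_symm⟩

theorem nb_image {g : Perm V} (hg : g ∈ AutG) (i : V) : (nb i).image g = nb (g i) := by
  ext j
  simp only [Finset.mem_image, mem_nb]
  exact ⟨fun ⟨x, hx, e⟩ => e ▸ (aut_adj hg i x).mpr hx, fun h => ⟨g⁻¹ j,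
    (aut_adj hg i _).mp (by rwa [apply_inv]), apply_inv g j⟩⟩

theorem card_nb (i : V) : (nb i).card = 112 := by
  obtain ⟨g, hg, rfl⟩ := trans_M i
  rw [← nb_image (M_le_AutG hg), Finset.card_image_of_injective _ g.injective]
  exact (countP_range 275 _).symm.trans row_zero.2.2.1

/-- The stabiliser of the first point. -/
noncomputable abbrev W : Subgroup (Perm V) := M ⊓ MulAction.stabilizer (Perm V) (0 : V)

theorem W_zero {w : Perm V} (hw : w ∈ W) : w 0 = 0 := hw.2

theorem W_aut {w : Perm V} (hw : w ∈ W) : w ∈ AutG := M_le_AutG hw.1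

theorem W_nb {w : Perm V} (hw : w ∈ W) : (nb 0).image w = nb 0 := by rw [nb_image (W_aut hw), W_zero hw]

theorem W_adj {w : Perm V} (hw : w ∈ W) {i : V} : Adj 0 (w i) ↔ Adj 0 i := by
  conv_lhs => rw [← W_zero hw]
  exact aut_adj (W_aut hw) 0 i

theorem card_W : Nat.card W = 3265920 := by
  have h := (MulAction.stabilizer M (0 : V)).card_mul_index
  have ho : MulAction.orbit M (0 : V) = Set.univ := Set.eq_univ_iff_forall.mpr fun i => by
    obtain ⟨g, hg, e⟩ := trans_M i
    exact ⟨⟨g, hg⟩, e⟩
  rw [MulAction.index_stabilizer, ho, Set.ncard_univ, Nat.card_eq_fintype_card (α := V), Fintype.card_fin,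
    card_M] at h
  have he : Nat.card (MulAction.stabilizer M (0 : V)) = Nat.card W :=
    Nat.card_congr
      { toFun := fun g => ⟨g.1.1, g.1.2, g.2⟩
        invFun := fun g => ⟨⟨g.1, g.2.1⟩, g.2.2⟩
        left_inv := fun _ => rfl
        right_inv := fun _ => rfl }
  omega

theorem lift_spec {g : ℕ} (hg : g < 2) : ∃ w ∈ W, Rep 275 (McLPoint.lifts.getD g (0, 0)).1 w := by
  have h := List.all_eq_true.mp McLPoint.lifts_ok g (List.mem_range.mpr hg)
  simp only [Bool.and_eq_true] at h
  obtain ⟨⟨⟨hperm, hsift⟩, h0⟩, -⟩ := h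
  have hr := decP_rep hperm
  exact ⟨_, ⟨mem_of_sift (by norm_num) mcl_table valid_M _ _ hr hsift,
    Fin.ext ((hr 0).symm.trans (Nat.eq_of_beq_eq_true h0))⟩, hr⟩

theorem lifts_len : McLPoint.lifts.length = 2 := by with_unfolding_all rfl

theorem valid_lifts : Valid 275 (McLPoint.lifts.map Prod.fst) ∧ genG 275 (McLPoint.lifts.map Prod.fst) ≤ W := by
  have key : ∀ c ∈ McLPoint.lifts.map Prod.fst, ∃ w ∈ W, Rep 275 c w := fun c hc => by
    obtain ⟨k, hk, rfl⟩ := List.getElem_of_mem hc
    rw [List.length_map] at hk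
    rw [List.getElem_map, ← List.getD_eq_getElem (d := (0, 0)) _ hk]
    exact lift_spec (lifts_len ▸ hk)
  refine ⟨fun c hc => (key c hc).imp fun _ h => h.2, ?_⟩
  refine (Subgroup.closure_le _).mpr ?_
  rintro g ⟨c, hc, hg⟩
  obtain ⟨w, hw, hr⟩ := key c hc
  exact hg.unique hr ▸ hw

/-- The base point among the neighbours of the first point. -/
def k0v : V := ⟨k0, row_zero.2.2.2.2⟩

theorem k0v_adj : Adj 0 k0v := row_zero.2.2.2.1

theorem trans_near {i : V} (hi : Adj 0 i) : ∃ w ∈ W, w k0v = i := by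
  obtain ⟨t, ht, e⟩ := reach_orbit valid_lifts.1 row_zero.2.2.2.2 near_reach i (mem_nb.mpr hi : i ∈ nb 0)
  exact ⟨t, valid_lifts.2 ht, e⟩

theorem farList_spec {k : ℕ} (hk : k < 162) :
    farList.getD k 0 < 275 ∧ adj 0 (farList.getD k 0) = false ∧ farList.getD k 0 ≠ 0 := by
  have := List.all_eq_true.mp far_list.2.2.2 k (List.mem_range.mpr hk)
  simp only [Bool.and_eq_true, Bool.not_eq_true', Nat.blt_eq] at this
  exact ⟨this.1.1, this.1.2, fun e => by rw [e] at this; exact Bool.noConfusion this.2⟩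

/-- The points neither equal nor adjacent to the first point, in a list. -/
def farV (k : Fin 162) : V := ⟨farList.getD k 0, (farList_spec k.2).1⟩

theorem farV_spec (k : Fin 162) : farV k ≠ 0 ∧ ¬ Adj 0 (farV k) := by
  obtain ⟨-, h2, h3⟩ := farList_spec k.2
  exact ⟨fun e => h3 (congrArg Fin.val e), fun h => by
    have : adj 0 (farList.getD k 0) = true := h
    rw [h2] at this; cases this⟩

theorem trans_far {i : V} (h0 : i ≠ 0) (hi : ¬ Adj 0 i) :
    (∃ k, farV k = i) ∧ ∃ w ∈ W, w (farV 0) = i := by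
  have hb : (maskOf farList).testBit (i : ℕ) = true := by
    have h := congrArg (Nat.testBit · (i : ℕ)) (Nat.eq_of_beq_eq_true far_list.2.2.1)
    simp only [Nat.testBit_or, full_testBit i.2, Bool.or_eq_true] at h
    rcases h with (h | h) | h
    · exact h
    · exact absurd h hi
    · exact absurd (Fin.ext (Nat.testBit_one_eq_true_iff_self_eq_zero.mp h)) h0
  refine ⟨?_, ?_⟩
  · obtain ⟨k, hk, e⟩ := List.getElem_of_mem ((testBit_maskOf _ _).mp hb)
    refine ⟨⟨k, far_list.1 ▸ hk⟩, Fin.ext ?_⟩
    show farList.getD k 0 = i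
    rw [List.getD_eq_getElem _ _ hk, e]
  · obtain ⟨t, ht, e⟩ := reach_orbit valid_lifts.1 (farList_spec (k := 0) (by norm_num)).1 far_list.2.1 i
      (mem_setV.mpr hb)
    exact ⟨t, valid_lifts.2 ht, e⟩

theorem farV_injective : Function.Injective farV := by
  have hsurj : Function.Surjective (fun k : Fin 162 => (⟨farV k, farV_spec k⟩ : {i : V // i ≠ 0 ∧ ¬ Adj 0 i})) :=
    fun i => by
      obtain ⟨⟨k, hk⟩, -⟩ := trans_far i.2.1 i.2.2
      exact ⟨k, Subtype.ext hk⟩
  have hcard : Fintype.card {i : V // i ≠ 0 ∧ ¬ Adj 0 i} = 162 := by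
    rw [Fintype.card_subtype]
    have : (Finset.univ.filter fun i : V => i ≠ 0 ∧ ¬ Adj 0 i) = Finset.univ \ insert 0 (nb 0) := by
      ext i; simp [mem_nb]
    rw [this, Finset.card_univ_sdiff, Fintype.card_fin,
      Finset.card_insert_of_notMem (by rw [mem_nb]; exact adj_irrefl 0), card_nb]
  have := (Fintype.bijective_iff_surjective_and_card _).mpr ⟨hsurj, by rw [hcard, Fintype.card_fin]⟩
  exact fun a b e => this.1 (Subtype.ext e)

/-! ### Lines -/

theorem line_spec {j : ℕ} (hj : j < 280) {t : ℕ} (ht : t < 4) :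
    ∃ h : lp j t < 275, Adj 0 ⟨lp j t, h⟩ ∧
      ∀ s < 4, s ≠ t → lp j t ≠ lp j s ∧ adj (lp j t) (lp j s) = true := by
  have := List.all_eq_true.mp (List.all_eq_true.mp lines_good j (List.mem_range.mpr hj)) t (List.mem_range.mpr ht)
  simp only [Bool.and_eq_true, Bool.or_eq_true, Bool.not_eq_true', Nat.blt_eq, List.all_eq_true,
    List.mem_range] at this
  obtain ⟨⟨h1, h2⟩, h3⟩ := this
  refine ⟨h1, h2, fun s hs hne => ?_⟩
  rcases h3 s hs with h | ⟨ha, hb⟩
  · exact absurd (Nat.eq_of_beq_eq_true h) hne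
  · exact ⟨fun e => (by rw [e, Nat.beq_refl] at hb; cases hb), ha⟩

def lineV (j : ℕ) : Finset V := setV (lineMask j)

theorem testBit_lineMask (j p : ℕ) :
    (lineMask j).testBit p = true ↔ ∃ t < 4, lp j t = p := by
  simp only [lineMask, Nat.testBit_or, Bool.or_eq_true, Nat.shiftLeft_eq, one_mul, Nat.testBit_two_pow,
    decide_eq_true_eq]
  constructor
  · rintro (((h | h) | h) | h)
    exacts [⟨0, by norm_num, h⟩, ⟨1, by norm_num, h⟩, ⟨2, by norm_num, h⟩, ⟨3, by norm_num, h⟩]
  · rintro ⟨t, ht, e⟩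
    interval_cases t <;> simp [e]

theorem mem_lineV {j : ℕ} {i : V} : i ∈ lineV j ↔ ∃ t < 4, lp j t = i := by
  rw [lineV, mem_setV, testBit_lineMask]

theorem lineV_card {j : ℕ} (hj : j < 280) : (lineV j).card = 4 := by
  rw [← Fintype.card_fin 4, ← Finset.card_univ]
  refine (Finset.card_bij (fun (t : Fin 4) _ => (⟨lp j t, (line_spec hj t.2).1⟩ : V))
    (fun t _ => mem_lineV.mpr ⟨t, t.2, rfl⟩) (fun t _ s _ e => ?_) (fun i hi => ?_)).symm
  · by_contra hne
    exact ((line_spec hj t.2).2.2 s s.2 (fun h => hne (Fin.ext h.symm))).1 (congrArg Fin.val e)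
  · obtain ⟨t, ht, e⟩ := mem_lineV.mp hi
    exact ⟨⟨t, ht⟩, Finset.mem_univ _, Fin.ext e⟩

theorem lineV_clique {j : ℕ} (hj : j < 280) {x y : V} (hx : x ∈ lineV j) (hy : y ∈ lineV j) (hne : x ≠ y) :
    Adj 0 x ∧ Adj x y := by
  obtain ⟨t, ht, et⟩ := mem_lineV.mp hx
  obtain ⟨s, hs, es⟩ := mem_lineV.mp hy
  obtain ⟨h1, h2, h3⟩ := line_spec hj ht
  have e : (⟨lp j t, h1⟩ : V) = x := Fin.ext et
  refine ⟨e ▸ h2, ?_⟩
  have := (h3 s hs fun e' => hne (Fin.ext (by rw [← et, ← es, e']))).2
  rw [et, es] at this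
  exact this

theorem lineV_near {j : ℕ} (hj : j < 280) : lineV j ⊆ nb 0 := fun x hx => by
  obtain ⟨t, ht, et⟩ := mem_lineV.mp hx
  obtain ⟨h1, h2, -⟩ := line_spec hj ht
  exact mem_nb.mpr ((show (⟨lp j t, h1⟩ : V) = x from Fin.ext et) ▸ h2)

/-- The orbit of a line is large. -/
theorem line_orbit : 113 ≤ (MulAction.orbit W (lineV line0)).ncard := by
  classical
  have hall : ∀ i < 280, lineV i ∈ MulAction.orbit W (lineV line0) := fun i hi => by
    obtain ⟨u, hu⟩ := reach_sound line_reach.2 (fun q => ∃ u : W, u • lineV line0 ⊆ lineV q)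
      ⟨1, by rw [one_smul]⟩ (fun c p g hs ⟨u, hu⟩ => by
        simp only [lineStep, Bool.and_eq_true, Nat.blt_eq, List.all_eq_true, List.mem_range, List.any_eq_true] at hs
        obtain ⟨hg, hs⟩ := hs
        obtain ⟨w, hw, hr⟩ := lift_spec hg
        refine ⟨⟨w, hw⟩ * u, fun x hx => ?_⟩
        rw [mul_smul] at hx
        obtain ⟨y, hy, rfl⟩ := Finset.mem_smul_finset.mp hx
        obtain ⟨t, ht, et⟩ := mem_lineV.mp (hu hy)
        obtain ⟨s, hs4, es⟩ := hs t ht
        refine mem_lineV.mpr ⟨s, hs4, ?_⟩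
        rw [← Nat.eq_of_beq_eq_true es, et]
        exact hr y) i (by rw [Nat.testBit_two_pow_sub_one, decide_eq_true_eq]; exact hi)
    exact ⟨u, Finset.eq_of_subset_of_card_le hu
      (by rw [Finset.card_smul_finset, lineV_card hi, lineV_card line_reach.1])⟩
  refine le_trans ?_ (Set.ncard_le_ncard (s := (fun i : Fin 113 => lineV i) '' Set.univ)
    (fun _ ⟨i, _, e⟩ => e ▸ hall i (by omega)) (Set.toFinite _))
  rw [Set.ncard_image_of_injective _ ?_, Set.ncard_univ, Nat.card_eq_fintype_card, Fintype.card_fin]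
  have key : ∀ i j : Fin 113, (j : ℕ) < i → lineV i ≠ lineV j := fun i j hlt e => by
    have h := List.all_eq_true.mp (List.all_eq_true.mp lines_apart i (List.mem_range.mpr i.2)) j
      (List.mem_range.mpr hlt)
    have : lineMask i = lineMask j := Nat.eq_of_testBit_eq fun q => by
      by_cases hq : q < 275
      · have := congrArg ((⟨q, hq⟩ : V) ∈ ·) e
        simpa [lineV, mem_setV] using this
      · have hbig : ∀ k < 280, (lineMask k).testBit q = false := fun k hk => by
          rw [← Bool.not_eq_true, testBit_lineMask]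
          rintro ⟨t, ht, et⟩
          exact hq (et ▸ (line_spec hk ht).1)
        rw [hbig _ (by omega), hbig _ (by omega)]
    rw [this, Nat.beq_refl] at h
    cases h
  intro i j e
  rcases lt_trichotomy (i : ℕ) j with h | h | h
  exacts [absurd e.symm (key j i h), Fin.ext h, absurd e (key i j h)]

/-! ### Common neighbours -/

theorem card_near_near {i : V} (hi : Adj 0 i) : (nb 0 ∩ nb i).card = 30 := by
  obtain ⟨w, hw, rfl⟩ := trans_near hi
  have h0 : (nb 0 ∩ nb k0v).card = 30 := by
    rw [← common_near.1, countP_range 275]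
    congr 1
    ext z
    simp [mem_nb, Adj, k0v]
  rw [← h0, ← Finset.card_image_of_injective (nb 0 ∩ nb k0v) w.injective, Finset.image_inter _ _ w.injective,
    W_nb hw, nb_image (W_aut hw)]

theorem card_triple {i j : V} (hi : Adj 0 i) (hj : Adj 0 j) (hij : Adj i j) :
    (nb 0 ∩ nb i ∩ nb j).card = 2 := by
  obtain ⟨w, hw, rfl⟩ := trans_near hi
  obtain ⟨j, rfl⟩ := w.surjective j
  rw [W_adj hw] at hj
  rw [aut_adj (W_aut hw)] at hij
  have h0 : (nb 0 ∩ nb k0v ∩ nb j).card = 2 := by
    have := List.all_eq_true.mp common_near.2 j (List.mem_range.mpr j.2)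
    rw [show adj 0 j = true from hj, show adj k0 j = true from hij] at this
    simp only [Bool.and_self, Bool.not_true, Bool.false_or] at this
    rw [← Nat.eq_of_beq_eq_true this, countP_range 275]
    congr 1
    ext z
    simp [mem_nb, Adj, k0v, and_assoc]
  rw [← h0, ← Finset.card_image_of_injective (nb 0 ∩ nb k0v ∩ nb j) w.injective,
    Finset.image_inter _ _ w.injective, Finset.image_inter _ _ w.injective, W_nb hw, nb_image (W_aut hw),
    nb_image (W_aut hw)]

/-- The trace of a further point on the neighbours of the first. -/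
def trace (c : V) : Finset V := nb 0 ∩ nb c

theorem far_counts {c : V} (h0 : c ≠ 0) (hc : ¬ Adj 0 c) :
    (trace c).card = 56 ∧ (nb c \ insert 0 (nb 0)).card = 56 ∧
      ∀ d : V, d ≠ 0 → ¬ Adj 0 d → d ≠ c → ¬ Adj c d → 30 < (trace c ∩ trace d).card := by
  obtain ⟨w, hw, rfl⟩ := (trans_far h0 hc).2
  have htr : ∀ x, (trace x).image w = trace (w x) := fun x => by
    rw [trace, trace, Finset.image_inter _ _ w.injective, W_nb hw, nb_image (W_aut hw)]
  refine ⟨?_, ?_, fun d hd0 hdA hne hnA => ?_⟩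
  · rw [← htr, Finset.card_image_of_injective _ w.injective, ← common_far.1, countP_range 275]
    congr 1
    ext z
    simp [trace, mem_nb, Adj, farV, and_comm]
  · have : (nb (w (farV 0)) \ insert 0 (nb 0)) = (nb (farV 0) \ insert 0 (nb 0)).image w := by
      rw [Finset.image_sdiff _ _ w.injective, Finset.image_insert, W_nb hw, W_zero hw, nb_image (W_aut hw)]
    rw [this, Finset.card_image_of_injective _ w.injective, ← common_far.2.1, countP_range 275]
    congr 1
    ext z
    simp only [Finset.mem_sdiff, Finset.mem_insert, mem_nb, not_or, Finset.mem_filter, Finset.mem_univ, true_and,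
      Bool.and_eq_true, Bool.not_eq_true']
    constructor
    · rintro ⟨h1, h2, h3⟩
      exact ⟨⟨h1, by simpa [Adj] using h3⟩, Bool.eq_false_iff.mpr fun e => h2 (Fin.ext (Nat.eq_of_beq_eq_true e))⟩
    · rintro ⟨⟨h1, h3⟩, h2⟩
      exact ⟨h1, fun e => by rw [e] at h2; exact Bool.noConfusion h2, by simp [Adj, h3]⟩
  · obtain ⟨d, rfl⟩ := w.surjective d
    rw [← W_zero hw] at hd0
    rw [W_adj hw] at hdA
    rw [aut_adj (W_aut hw)] at hnA
    have hne' : d ≠ farV 0 := fun e => hne (by rw [e])
    have hd0' : d ≠ 0 := fun e => hd0 (by rw [e])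
    rw [← htr, ← htr, ← Finset.image_inter _ _ w.injective, Finset.card_image_of_injective _ w.injective]
    have := List.all_eq_true.mp common_far.2.2 d (List.mem_range.mpr d.2)
    simp only [Bool.or_eq_true, Nat.ble_eq] at this
    rcases this with (((h | h) | h) | h) | h
    · exact absurd h hdA
    · exact absurd (Fin.ext (Nat.eq_of_beq_eq_true h)) hd0'
    · exact absurd (Fin.ext (Nat.eq_of_beq_eq_true h)) hne'
    · exact absurd h hnA
    · refine lt_of_lt_of_le (Nat.lt_of_succ_le h) (le_of_eq ?_)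
      rw [countP_range 275]
      congr 1
      ext z
      simp [trace, mem_nb, Adj, farV]
      tauto

/-! ### The Sylow subgroup for the prime three -/

theorem pGens_rep : ∀ c ∈ pGens.map Prod.fst,
    ∃ g ∈ W, CfsgPC.Rep 275 c g ∧ g k0v = k0v := fun c hc => by
  obtain ⟨e, he, rfl⟩ := List.mem_map.mp hc
  have h := List.all_eq_true.mp p_gens e he
  simp only [Bool.and_eq_true] at h
  obtain ⟨⟨⟨h1, h2⟩, h3⟩, h4⟩ := h
  have hr := decP_rep h1
  exact ⟨_, ⟨mem_of_sift (by norm_num) mcl_table valid_M _ _ hr h2,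
    Fin.ext ((hr 0).symm.trans (Nat.eq_of_beq_eq_true h3))⟩, hr,
    Fin.ext ((hr k0v).symm.trans (Nat.eq_of_beq_eq_true h4))⟩

/-- The Sylow subgroup. -/
noncomputable abbrev P : Subgroup (Perm V) := genG 275 (pGens.map Prod.fst)

theorem valid_P : Valid 275 (pGens.map Prod.fst) := fun c hc => (pGens_rep c hc).imp fun _ h => h.2.1

theorem P_le : P ≤ W := by
  refine (Subgroup.closure_le _).mpr ?_
  rintro g ⟨c, hc, hg⟩
  obtain ⟨w, hw, hr, -⟩ := pGens_rep c hc
  exact hg.unique hr ▸ hw

theorem P_fix {g : Perm V} (hg : g ∈ P) : g k0v = k0v := by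
  have : P ≤ MulAction.stabilizer (Perm V) k0v := by
    refine (Subgroup.closure_le _).mpr ?_
    rintro g ⟨c, hc, hg⟩
    obtain ⟨w, -, hr, hk⟩ := pGens_rep c hc
    exact hg.unique hr ▸ hk
  exact this hg

theorem card_P : Nat.card P = 729 := by
  obtain ⟨hs, hl, hlens, hsize, hlast⟩ := p_shape
  have hlen : ∀ j < 2, (pChain.getD j ⟨0, [], [], []⟩).tr.length = [81, 9].getD j 0 := fun j hj => by
    rw [← hlens, List.getD_eq_getElem _ _ (hl.symm ▸ hj),
      List.getD_eq_getElem _ _ (by rw [List.length_map, hl]; exact hj), List.getElem_map]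
  have htab : TableOK 275 pChain (pGens.map Prod.fst) := tableOK_of_checks hs fun j hj k hk => by
    rw [hl] at hj
    rw [hlen j hj] at hk
    interval_cases j
    · exact of_entriesOK p_entries.1 (Nat.zero_le _) hk
    · exact of_entriesOK p_entries.2 (Nat.zero_le _) hk
  have heq := table_closed (by norm_num) htab valid_P (fun j hj k hk g hg => by
    rw [hl] at hj
    rw [hlen j hj] at hk
    interval_cases j
    · exact of_closedOK p_closed.1 (Nat.zero_le _) hk g hg
    · exact of_closedOK p_closed.2 (Nat.zero_le _) hk g hg)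
    (fun c hc i hi => Nat.eq_of_beq_eq_true
      (List.all_eq_true.mp (List.all_eq_true.mp hlast c (hl ▸ hc)) i (List.mem_range.mpr hi)))
  rw [← hsize, ← (table_products (by norm_num) htab valid_P).2, heq]
  exact (Nat.card_coe_set_eq _)

/-- An orbit of the Sylow subgroup on the neighbours of the first point. -/
def orbP (a : ℕ) : Finset V := setV (maskOf (pOrbs.getD a []))

theorem mem_orbP {a : ℕ} {i : V} : i ∈ orbP a ↔ (i : ℕ) ∈ pOrbs.getD a [] := by
  rw [orbP, mem_setV, testBit_maskOf]

theorem orbP_trans {a : ℕ} (ha : a < 4) {x y : V} (hx : x ∈ orbP a) (hy : y ∈ orbP a) : ∃ p ∈ P, p x = y := by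
  have h := List.all_eq_true.mp p_orbits.1 a (List.mem_range.mpr ha)
  simp only [Bool.and_eq_true] at h
  have hhead : (pOrbs.getD a []).getD 0 0 < 275 := by
    have hne : 0 < (pOrbs.getD a []).length := List.length_pos_of_mem (mem_orbP.mp hx)
    rw [List.getD_eq_getElem _ _ hne]
    have := List.all_eq_true.mp h.2 _ (List.getElem_mem hne)
    simpa [Nat.blt_eq] using this
  obtain ⟨p, hp, ep⟩ := reach_orbit valid_P hhead h.1 x hx
  obtain ⟨q, hq, eq⟩ := reach_orbit valid_P hhead h.1 y hy
  exact ⟨q * p⁻¹, mul_mem hq (inv_mem hp), by rw [Perm.mul_apply, ← ep, show p⁻¹ (p _) = _ from p.symm_apply_apply _, eq]⟩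

theorem orbP_card {a : ℕ} (ha : a < 4) : (orbP a).card = [1, 3, 27, 81].getD a 0 := by
  have hlen : pOrbs.length = 4 := by
    have := congrArg List.length p_orbits.2.1
    simpa using this
  have hnd : (pOrbs.getD a []).Nodup := by
    rw [List.getD_eq_getElem _ _ (hlen.symm ▸ ha)]
    exact (List.nodup_flatten.mp p_orbits.2.2.2.2.2.2).1 _ (List.getElem_mem _)
  rw [← p_orbits.2.1, List.getD_eq_getElem _ _ (by rw [List.length_map, hlen]; exact ha), List.getElem_map,
    ← List.getD_eq_getElem (d := []) _ (hlen.symm ▸ ha), ← List.toFinset_card_of_nodup hnd,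
    ← Finset.card_map Fin.valEmbedding]
  congr 1
  ext x
  simp only [Finset.mem_map, mem_orbP, Fin.valEmbedding_apply, List.mem_toFinset]
  refine ⟨fun ⟨i, hi, e⟩ => e ▸ hi, fun hx => ?_⟩
  have := List.all_eq_true.mp p_orbits.1 a (List.mem_range.mpr ha)
  simp only [Bool.and_eq_true, List.all_eq_true, Nat.blt_eq] at this
  exact ⟨⟨x, this.2 x hx⟩, hx, rfl⟩

theorem orbP_cover {i : V} : Adj 0 i ↔ ∃ a < 4, i ∈ orbP a := by
  have hlen : pOrbs.length = 4 := by
    have := congrArg List.length p_orbits.2.1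
    simpa using this
  rw [← mem_nb, ← setV_rowAt, mem_setV, show ((0 : V) : ℕ) = 0 from rfl,
    ← Nat.eq_of_beq_eq_true p_orbits.2.2.2.1, testBit_maskOf, List.mem_flatten]
  constructor
  · rintro ⟨l, hl, hi⟩
    obtain ⟨a, ha, e⟩ := List.getElem_of_mem hl
    exact ⟨a, hlen ▸ ha, mem_orbP.mpr (by rw [List.getD_eq_getElem _ _ ha, e]; exact hi)⟩
  · rintro ⟨a, ha, hi⟩
    rw [mem_orbP, List.getD_eq_getElem _ _ (hlen.symm ▸ ha)] at hi
    exact ⟨_, List.getElem_mem _, hi⟩

theorem orbP_zero : orbP 0 = {k0v} := by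
  ext i
  rw [mem_orbP, p_orbits.2.2.1, List.mem_singleton, Finset.mem_singleton, Fin.ext_iff]
  rfl

theorem orbP_line : insert k0v (orbP 1) = lineV line0 := by
  ext i
  rw [lineV, mem_setV, ← Nat.eq_of_beq_eq_true p_orbits.2.2.2.2.1, testBit_maskOf, List.mem_cons, Finset.mem_insert,
    mem_orbP, Fin.ext_iff]
  rfl

theorem orbP_nb : orbP 1 ∪ orbP 2 = nb 0 ∩ nb k0v := by
  ext i
  have := congrArg (Nat.testBit · (i : ℕ)) (Nat.eq_of_beq_eq_true p_orbits.2.2.2.2.2.1)
  simp only [Nat.testBit_and] at this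
  rw [Finset.mem_union, mem_orbP, mem_orbP, ← List.mem_append, ← testBit_maskOf, this, Bool.and_eq_true,
    Finset.mem_inter, mem_nb, mem_nb]
  rfl

/-! ### Hemisystems -/

/-- A set of a class. -/
def cls (j k : ℕ) : Finset V := setV (classMask j k)

theorem cls_card {j k : ℕ} (hj : j < 4) (hk : k < 162) : (cls j k).card = 56 := by
  have := List.all_eq_true.mp (List.all_eq_true.mp class_cards j (List.mem_range.mpr hj)) k (List.mem_range.mpr hk)
  rw [← Nat.eq_of_beq_eq_true this, countP_range 275]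
  rfl

theorem hemi {S : Finset V} (hcard : S.card = 56) (hline : ∀ j < 280, (S ∩ lineV j).card = 2) :
    ∃ j < 4, ∃ k < 162, S = cls j k := by
  classical
  have hN : Hemi (S.map Fin.valEmbedding) := by
    refine ⟨fun x hx => ?_, by rw [Finset.card_map, hcard], fun j hj u h1 h0 => ?_⟩
    · obtain ⟨i, -, rfl⟩ := Finset.mem_map.mp hx
      exact Finset.mem_range.mpr i.2
    · have e : ∀ (t : ℕ) (ht : t < 4), u (lp j t) = if (⟨lp j t, (line_spec hj ht).1⟩ : V) ∈ S then 1 else 0 := by
        intro t ht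
        split
        · rename_i h; exact h1 _ (Finset.mem_map.mpr ⟨_, h, rfl⟩)
        · rename_i h
          refine h0 _ fun h' => h ?_
          obtain ⟨i, hi, e⟩ := Finset.mem_map.mp h'
          exact (show i = (⟨lp j t, (line_spec hj ht).1⟩ : V) from Fin.ext e) ▸ hi
      have hs : ∑ t : Fin 4, u (lp j t) = 2 := by
        rw [← hline j hj, Finset.inter_comm, ← Finset.filter_mem_eq_inter, Finset.card_filter]
        refine (Finset.sum_bij (fun (t : Fin 4) _ => (⟨lp j t, (line_spec hj t.2).1⟩ : V))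
          (fun t _ => mem_lineV.mpr ⟨t, t.2, rfl⟩) (fun t _ s _ e => ?_) (fun i hi => ?_)
          (fun t _ => e t t.2))
        · by_contra hne
          exact ((line_spec hj t.2).2.2 s s.2 (fun h => hne (Fin.ext h.symm))).1 (congrArg Fin.val e)
        · obtain ⟨t, ht, e⟩ := mem_lineV.mp hi
          exact ⟨⟨t, ht⟩, Finset.mem_univ _, Fin.ext e⟩
      simpa [Fin.sum_univ_four] using hs
  have hc : ∀ j < 4, ∀ k < 162, (setN (classMask j k)).card = 56 := fun j hj k hk => by
    have := List.all_eq_true.mp (List.all_eq_true.mp class_cards j (List.mem_range.mpr hj)) k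
      (List.mem_range.mpr hk)
    rw [← Nat.eq_of_beq_eq_true this, List.countP_eq_length_filter,
      ← List.toFinset_card_of_nodup (List.nodup_range.filter _), List.toFinset_filter, List.toFinset_range]
    rfl
  obtain ⟨j, hj, k, hk, e⟩ := HTree.sound hN hc hemiTree tree_ok ⟨fun p h => by simp at h, fun p h => by simp at h⟩
  refine ⟨j, hj, k, hk, Finset.map_injective Fin.valEmbedding (e.trans ?_)⟩
  ext x
  simp only [setN, cls, setV, Finset.mem_filter, Finset.mem_range, Finset.mem_map, Finset.mem_univ, true_and,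
    Fin.valEmbedding_apply]
  exact ⟨fun ⟨hx, h⟩ => ⟨⟨x, hx⟩, h, rfl⟩, fun ⟨i, hi, e⟩ => e ▸ ⟨i.2, hi⟩⟩

/-- The automorphism carrying a class to the traces. -/
noncomputable def tau (j : ℕ) : Perm V := decP 275 (taus.getD j (0, 0)).1

theorem tau_check {j : ℕ} (hj : j < 4) : tauOK (taus.getD j (0, 0)) = true := by
  refine List.all_eq_true.mp taus_ok.2 _ ?_
  rw [List.getD_eq_getElem _ _ (taus_ok.1.symm ▸ hj)]
  exact List.getElem_mem _

theorem tau_rep {j : ℕ} (hj : j < 4) : CfsgPC.Rep 275 (taus.getD j (0, 0)).1 (tau j) := by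
  have := tau_check hj
  simp only [tauOK, Bool.and_eq_true] at this
  exact decP_rep this.1

theorem tau_adj {j : ℕ} (hj : j < 4) {x y : V} (hx : Adj 0 x) (hy : Adj 0 y) :
    Adj 0 (tau j x) ∧ (Adj (tau j x) (tau j y) ↔ Adj x y) := by
  have h := tau_check hj
  simp only [tauOK, Bool.and_eq_true, List.all_eq_true, List.mem_range] at h
  have ea : ∀ a : V, ap (taus.getD j (0, 0)).1 a = (tau j a : ℕ) := tau_rep hj
  have hzero : ∀ a : V, Adj 0 (tau j a) ↔ Adj 0 a := fun a => by
    have h1 := (h.2 a a.2).1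
    rw [beq_iff_eq, ea] at h1
    show adj 0 _ = true ↔ adj 0 _ = true
    rw [h1]
  refine ⟨(hzero x).mpr hx, ?_⟩
  have h2 := (h.2 x x.2).2
  rw [show adj 0 x = true from hx, Bool.not_true, Bool.false_or, ea] at h2
  have e := rowInv_spec (tau_rep hj) h2 y
  simp only [mem_setV, Nat.testBit_and, Bool.and_eq_true] at e
  exact ⟨fun hh => (e.mpr ⟨hh, (hzero y).mpr hy⟩).1, fun hh => (e.mp ⟨hh, hy⟩).1⟩

theorem cls_image {j : ℕ} (hj : j < 4) (k : Fin 162) : (cls j k).image (tau j) = trace (farV k) := by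
  have h := List.all_eq_true.mp (List.all_eq_true.mp classes_ok j (List.mem_range.mpr hj)) k (List.mem_range.mpr k.2)
  simp only [classOK, List.all_eq_true, List.mem_range] at h
  ext y
  obtain ⟨x, rfl⟩ := (tau j).surjective y
  rw [(tau j).injective.mem_finset_image, cls, mem_setV]
  have := h x x.2
  rw [beq_iff_eq, tau_rep hj x] at this
  rw [this, Nat.testBit_and, Bool.and_eq_true, trace, Finset.mem_inter, mem_nb, mem_nb]
  rfl

theorem cls_trans {j : ℕ} (hj : j < 4) {k : ℕ} (hk : k < 162) : ∃ w ∈ W, (cls j 0).image w = cls j k :=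
  reach_sound (List.all_eq_true.mp class_reach j (List.mem_range.mpr hj))
    (fun q => ∃ w ∈ W, (cls j 0).image w = cls j q) ⟨1, one_mem _, Finset.image_id⟩
    (fun c p g hs ⟨u, hu, e⟩ => by
      simp only [classStep, Bool.and_eq_true, Nat.blt_eq] at hs
      obtain ⟨w, hw, hr⟩ := lift_spec hs.1
      refine ⟨w * u, mul_mem hw hu, ?_⟩
      rw [show ((w * u : Perm V) : V → V) = w ∘ u from rfl, ← Finset.image_image, e]
      ext y
      obtain ⟨x, rfl⟩ := w.surjective y
      rw [w.injective.mem_finset_image]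
      exact rowInv_spec hr hs.2 x) k
    (by rw [Nat.testBit_two_pow_sub_one, decide_eq_true_eq]; exact hk)

/-! ### All automorphisms -/

/-- Fixing the first points of the base. -/
def baseFix (n : ℕ) : Subgroup (Perm V) where
  carrier := {g | g ∈ AutG ∧ ∀ i : V, (i : ℕ) ∈ autBase.take n → g i = i}
  one_mem' := ⟨one_mem _, fun _ _ => rfl⟩
  mul_mem' := fun {g h} hg hh => ⟨mul_mem hg.1 hh.1, fun i hi => by
    rw [Perm.mul_apply, hh.2 i hi, hg.2 i hi]⟩
  inv_mem' := fun {g} hg => ⟨inv_mem hg.1, fun i hi => by rw [Perm.inv_eq_iff_eq, hg.2 i hi]⟩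

theorem testBit_candMask (v : ℕ) (ws : List ℕ) {u : ℕ} (hu : u < 275) :
    (candMask v ws).testBit u = true ↔ ∀ w ∈ ws, adj w u = adj w v := by
  have key : ∀ (ws : List ℕ) (m : ℕ),
      (ws.foldl (fun m w => m &&& (if (rowAt w).testBit v then rowAt w else full275 ^^^ rowAt w)) m).testBit u =
        true ↔ m.testBit u = true ∧ ∀ w ∈ ws, adj w u = adj w v := by
    intro ws
    induction ws with
    | nil => simp
    | cons a ws ih =>
      intro m
      rw [List.foldl_cons, ih, Nat.testBit_and, Bool.and_eq_true, List.forall_mem_cons]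
      have : ((if (rowAt a).testBit v then rowAt a else full275 ^^^ rowAt a).testBit u = true) ↔
          adj a u = adj a v := by
        unfold adj
        cases hv : (rowAt a).testBit v <;> simp [Nat.testBit_xor, full_testBit hu]
      rw [this, and_assoc]
  rw [candMask, key, full_testBit hu]
  simp

theorem base_lt {j : ℕ} (hj : j < 7) : autBase.getD j 0 < 275 := by
  rw [List.getD_eq_getElem _ _ (aut_counts.1.symm ▸ hj)]
  simpa [Nat.blt_eq] using List.all_eq_true.mp aut_counts.2.2.1 _ (List.getElem_mem _)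

theorem baseFix_step {j : ℕ} (hj : j < 7) :
    Nat.card (baseFix j) ≤ autCounts.getD j 0 * Nat.card (baseFix (j + 1)) := by
  set b : V := ⟨autBase.getD j 0, base_lt hj⟩
  have h := (MulAction.stabilizer (baseFix j) b).card_mul_index
  rw [MulAction.index_stabilizer] at h
  have hst : Nat.card (MulAction.stabilizer (baseFix j) b) ≤ Nat.card (baseFix (j + 1)) := by
    refine Nat.card_le_card_of_injective (fun g => ⟨g.1.1, g.1.2.1, fun i hi => ?_⟩)
      (fun g g' e => Subtype.ext (Subtype.ext (congrArg (fun z => z.1) e :)))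
    rw [List.take_succ_eq_append_getElem (aut_counts.1.symm ▸ hj), List.mem_append, List.mem_singleton,
      ← List.getD_eq_getElem (d := 0) _ _] at hi
    rcases hi with hi | hi
    · exact g.1.2.2 i hi
    · rw [show i = b from Fin.ext hi]
      exact g.2
  have horb : (MulAction.orbit (baseFix j) b).ncard ≤ autCounts.getD j 0 := by
    rw [← Nat.eq_of_beq_eq_true (List.all_eq_true.mp aut_counts.2.2.2.1 j (List.mem_range.mpr hj)), candCount,
      countP_range 275, ← Set.ncard_coe_finset]
    refine Set.ncard_le_ncard ?_ (Set.toFinite _)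
    rintro _ ⟨g, rfl⟩
    simp only [Finset.coe_filter, Finset.mem_univ, true_and, Set.mem_ofPred_eq, Bool.and_eq_true,
      Bool.not_eq_true']
    refine ⟨(testBit_candMask _ _ (g • b).2).mpr fun w hw => ?_, ?_⟩
    · have hw275 : w < 275 := by
        simpa [Nat.blt_eq] using List.all_eq_true.mp aut_counts.2.2.1 w (List.mem_of_mem_take hw)
      have := aut_adj g.2.1 (⟨w, hw275⟩ : V) b
      rw [g.2.2 _ hw] at this
      exact Bool.eq_iff_iff.mpr this
    · rw [← Bool.not_eq_true, List.contains_iff_mem]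
      intro hm
      have e1 : g.1 (g • b) = g • b := g.2.2 _ hm
      have e2 : g • b = b := g.1.injective e1
      rw [e2] at hm
      have hnd : autBase.Nodup := by with_unfolding_all decide
      obtain ⟨i, hi, e⟩ := List.getElem_of_mem hm
      rw [List.length_take] at hi
      rw [List.getElem_take] at e
      have := (hnd.getElem_inj_iff (hj := aut_counts.1.symm ▸ hj)).mp (e.trans (List.getD_eq_getElem _ _ _))
      omega
  rw [← h, Nat.mul_comm (autCounts.getD j 0)]
  exact Nat.mul_le_mul hst horb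

theorem baseFix_last : baseFix 7 = ⊥ := by
  rw [eq_bot_iff]
  rintro g ⟨hg, hfix⟩
  rw [List.take_of_length_le (le_of_eq aut_counts.1)] at hfix
  rw [Subgroup.mem_bot]
  have key : ∀ (l : List (ℕ × List ℕ)) (known : ℕ), (l.all fun e => Nat.blt e.1 275) = true →
      witOK l known = true → (∀ i : V, known.testBit i = true → g i = i) → g = 1 := by
    intro l
    induction l with
    | nil =>
      intro known _ h hk
      refine Equiv.ext fun i => hk i ?_
      rw [Nat.eq_of_beq_eq_true h, full_testBit i.2]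
    | cons e es ih =>
      intro known hlt h hk
      simp only [witOK, Bool.and_eq_true, List.all_eq_true] at h
      simp only [List.all_cons, Bool.and_eq_true, Nat.blt_eq] at hlt
      obtain ⟨⟨hw, he⟩, hrest⟩ := h
      refine ih _ hlt.2 hrest fun i hi => ?_
      rw [Nat.testBit_or, Bool.or_eq_true] at hi
      rcases hi with hi | hi
      · exact hk i hi
      have ei : i = ⟨e.1, hlt.1⟩ := Fin.ext (testBit_shl_one hi)
      subst ei
      by_contra hne
      have hc : (candMask e.1 e.2).testBit (g ⟨e.1, hlt.1⟩ : ℕ) = true := by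
        refine (testBit_candMask _ _ (g _).2).mpr fun w hw' => ?_
        have hk1 := hw w hw'
        by_cases hw275 : w < 275
        · have := aut_adj hg (⟨w, hw275⟩ : V) ⟨e.1, hlt.1⟩
          rw [hk ⟨w, hw275⟩ hk1] at this
          exact Bool.eq_iff_iff.mpr this
        · unfold adj rowAt
          rw [List.getD_eq_default _ _ (le_trans (le_of_eq adjRows_len) (Nat.le_of_not_lt hw275))]
          simp
      have := congrArg (Nat.testBit · (g ⟨e.1, hlt.1⟩ : ℕ)) (Nat.eq_of_beq_eq_true he)
      simp only [Nat.testBit_or, hc, Bool.true_or] at this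
      rcases Bool.or_eq_true_iff.mp this.symm with h' | h'
      · exact hne (g.injective (hk _ h'))
      · exact hne (Fin.ext (testBit_shl_one h'))
  exact key autWit (maskOf autBase) aut_wit.2 aut_wit.1 fun i hi => hfix i ((testBit_maskOf _ _).mp hi)

/-- There are at most twice as many automorphisms as elements of the group. -/
theorem card_AutG : Nat.card AutG ≤ 1796256000 := by
  have h0 : Nat.card AutG ≤ Nat.card (baseFix 0) :=
    Nat.card_le_card_of_injective (fun g => ⟨g.1, g.2, fun i hi => by simp at hi⟩)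
      (fun g g' e => Subtype.ext (congrArg Subtype.val e :))
  have h7 : Nat.card (baseFix 7) = 1 := by rw [baseFix_last, Subgroup.card_bot]
  have key : ∀ n ≤ 7, Nat.card (baseFix (7 - n)) ≤ (autCounts.drop (7 - n)).prod := by
    intro n
    induction n with
    | zero => intro _; rw [Nat.sub_zero, h7, List.drop_of_length_le (le_of_eq aut_counts.2.1)]; simp
    | succ n ih =>
      intro hn
      have := baseFix_step (j := 7 - (n + 1)) (by omega)
      rw [show 7 - (n + 1) + 1 = 7 - n by omega] at this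
      rw [List.drop_eq_getElem_cons (by rw [aut_counts.2.1]; omega), List.prod_cons,
        show 7 - (n + 1) + 1 = 7 - n by omega, ← List.getD_eq_getElem (d := 0) _ _]
      exact this.trans (Nat.mul_le_mul_left _ (ih (by omega)))
  refine h0.trans ((key 7 le_rfl).trans (le_of_eq ?_))
  rw [Nat.sub_self, List.drop_zero, aut_counts.2.2.2.2]

/-! ### The stabiliser is the unitary group -/

theorem W_iso (F : Type) [Field F] [Fintype F] (hF : Fintype.card F = 9) : Nonempty (PSU 4 F 3 ≃* W) := by
  classical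
  obtain ⟨hcU, -, ⟨eU⟩⟩ := U43Mult.small_card hF
  have hinj : Function.Injective McLPoint.lineF := fun i j e =>
    McLPoint.lineX_injective (congrArg (fun s : Finset V => (fun k : V => pairSet mclPts k) '' (s : Set V)) e)
  obtain ⟨e⟩ := exists_model (G := W) (n := 280) (f := McLPoint.lineF) hinj
    (gens := U43Mult.gens.map Prod.fst) (fun c hc => by
      obtain ⟨j, hj, rfl⟩ := List.getElem_of_mem hc
      rw [List.length_map] at hj
      rw [List.getElem_map, ← List.getD_eq_getElem (d := (0, 0)) _ hj]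
      have hj2 : j < 2 := U43Mult.gens_ok.2 ▸ hj
      have h := List.all_eq_true.mp McLPoint.lifts_ok j (List.mem_range.mpr hj2)
      simp only [Bool.and_eq_true, List.all_eq_true, List.mem_range, List.contains_iff_mem] at h
      obtain ⟨-, hline⟩ := h
      obtain ⟨q, hq⟩ := U43Mult.small_valid _ (List.mem_map.mpr ⟨_, List.getElem_mem hj, rfl⟩)
      rw [← List.getD_eq_getElem (d := (0, 0)) _ hj] at hq
      obtain ⟨w, hw, hr⟩ := lift_spec hj2
      refine ⟨⟨w, hw⟩, q, hq, fun i => ?_⟩
      refine Finset.eq_of_subset_of_card_le (fun k hk => ?_)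
        (by rw [McLPoint.lineF_card, Finset.card_smul_finset, McLPoint.lineF_card])
      obtain ⟨a, ha, rfl⟩ := Finset.mem_smul_finset.mp hk
      simp only [McLPoint.lineF, Finset.mem_filter, Finset.mem_univ, true_and, List.contains_iff_mem] at ha ⊢
      have h2 := hline i i.2 _ ha
      rw [hq i, hr a] at h2
      exact h2)
    (le_of_eq (card_W.trans hcU.symm))
  exact ⟨eU.trans e.symm⟩

end CfsgLib.McLRecog
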