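/-
A graph with the parameters and the local structure of the McLaughlin graph is isomorphic to it.
-/
import Cfsg.Agent.Lib.McLRecog.Model
import Cfsg.Agent.Lib.McLRecog.DistinctChecks

set_option autoImplicit false
set_option maxRecDepth 30000
set_option linter.style.haveILetI false

namespace CfsgLib.McLRecog

open Finset

theorem cls_injective {j : ℕ} (hj : j < 4) : Function.Injective fun k : Fin 162 => cls j k := by
  intro k k' e
  have hj' : j < classMasks.length := class_nodup.2.1.symm ▸ hj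
  have hall := List.all_eq_true.mp class_nodup.1 _ (List.getElem_mem hj')
  have hlen := Nat.eq_of_beq_eq_true (List.all_eq_true.mp class_nodup.2.2 _ (List.getElem_mem hj'))
  simp only [Bool.and_eq_true, decide_eq_true_eq, List.all_eq_true, Nat.blt_eq] at hall
  have hlt : ∀ i : Fin 162, classMask j i = (classMasks[j]'hj')[(i : ℕ)]'(by rw [hlen]; exact i.2) := fun i => by
    rw [classMask, List.getD_eq_getElem _ _ hj', List.getD_eq_getElem _ _ (hlen.symm ▸ i.2)]
  have : classMask j k = classMask j k' := Nat.eq_of_testBit_eq fun q => by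
    by_cases hq : q < 275
    · have := congrArg ((⟨q, hq⟩ : V) ∈ ·) e
      simpa [cls, mem_setV] using this
    · have hb : ∀ i : Fin 162, (classMask j i).testBit q = false := fun i => Nat.testBit_lt_two_pow
        ((lt_of_eq_of_lt (hlt i) (hall.2 _ (List.getElem_mem _))).trans_le (Nat.pow_le_pow_right (by norm_num) (Nat.le_of_not_lt hq)))
      rw [hb, hb]
  rw [hlt, hlt] at this
  exact Fin.ext ((hall.1.getElem_inj_iff).mp this)

variable {Ω : Type*} [Fintype Ω] [DecidableEq Ω] {R : Ω → Ω → Prop} [DecidableRel R]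

/-- The data of the local structure at one point. -/
structure Local (R : Ω → Ω → Prop) [DecidableRel R] (a : Ω) (φ : Ω → V) : Prop where
  card : Fintype.card Ω = 275
  symm : ∀ x y, R x y → R y x
  irrefl : ∀ x, ¬ R x x
  deg : ∀ x, (univ.filter (R x)).card = 112
  lam : ∀ x y, R x y → (univ.filter fun z => R x z ∧ R y z).card = 30
  mu : ∀ x y, x ≠ y → ¬ R x y → (univ.filter fun z => R x z ∧ R y z).card = 56
  near : ∀ x, R a x → Adj 0 (φ x)
  inj : ∀ x y, R a x → R a y → φ x = φ y → x = y
  iff : ∀ x y, R a x → R a y → (R x y ↔ Adj (φ x) (φ y))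

variable {a : Ω} {φ : Ω → V}

/-- The image of the neighbours of a point among those of the base point. -/
def traceR (R : Ω → Ω → Prop) [DecidableRel R] (a : Ω) (φ : Ω → V) (x : Ω) : Finset V :=
  (univ.filter fun z => R a z ∧ R x z).image φ

variable (h : Local R a φ)

include h

omit [DecidableEq Ω] in
theorem Local.injOn {s : Finset Ω} (hs : ∀ z ∈ s, R a z) : Set.InjOn φ s := fun x hx y hy e =>
  h.inj x y (hs x hx) (hs y hy) e

theorem Local.image_near : (univ.filter (R a)).image φ = nb 0 := by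
  refine eq_of_subset_of_card_le (fun v hv => ?_) ?_
  · obtain ⟨x, hx, rfl⟩ := mem_image.mp hv
    exact mem_nb.mpr (h.near x (mem_filter.mp hx).2)
  · rw [card_nb, card_image_of_injOn (h.injOn fun z hz => (mem_filter.mp hz).2), h.deg]

theorem Local.surj {v : V} (hv : Adj 0 v) : ∃ x, R a x ∧ φ x = v := by
  have := mem_nb.mpr hv
  rw [← h.image_near] at this
  obtain ⟨x, hx, e⟩ := mem_image.mp this
  exact ⟨x, (mem_filter.mp hx).2, e⟩

theorem Local.mem_traceR {x z : Ω} (hz : R a z) : φ z ∈ traceR R a φ x ↔ R x z := by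
  refine ⟨fun hm => ?_, fun hx => mem_image.mpr ⟨z, by simp [hz, hx], rfl⟩⟩
  obtain ⟨w, hw, e⟩ := mem_image.mp hm
  simp only [mem_filter, mem_univ, true_and] at hw
  exact h.inj w z hw.1 hz e ▸ hw.2

theorem Local.traceR_near (x : Ω) : traceR R a φ x ⊆ nb 0 := fun v hv => by
  obtain ⟨w, hw, rfl⟩ := mem_image.mp hv
  exact mem_nb.mpr (h.near w (mem_filter.mp hw).2.1)

/-- The trace of a further point meets every line in two points. -/
theorem Local.hemi_trace {x : Ω} (hxa : x ≠ a) (hax : ¬ R a x) :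
    (traceR R a φ x).card = 56 ∧ ∀ j < 280, (traceR R a φ x ∩ lineV j).card = 2 := by
  classical
  refine ⟨?_, fun j hj => ?_⟩
  · rw [traceR, card_image_of_injOn (h.injOn fun z hz => (mem_filter.mp hz).2.1)]
    exact h.mu a x hxa.symm hax
  set C := univ.filter fun z => R a z ∧ φ z ∈ lineV j with hC
  set F := univ.filter fun z => z ≠ a ∧ ¬ R a z with hF
  have hCa : ∀ b ∈ C, R a b := fun b hb => (mem_filter.mp hb).2.1
  have hCcard : C.card = 4 := by
    rw [← lineV_card hj, ← card_image_of_injOn (h.injOn hCa)]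
    congr 1
    ext v
    refine ⟨fun hv => ?_, fun hv => ?_⟩
    · obtain ⟨b, hb, rfl⟩ := mem_image.mp hv
      exact (mem_filter.mp hb).2.2
    · obtain ⟨b, hb, rfl⟩ := h.surj (mem_nb.mp (lineV_near hj hv))
      exact mem_image.mpr ⟨b, by simp [hC, hb, hv], rfl⟩
  have hclique : ∀ b ∈ C, ∀ b' ∈ C, b ≠ b' → R b b' ∧ Adj (φ b) (φ b') := fun b hb b' hb' hne => by
    have hne' : φ b ≠ φ b' := fun e => hne (h.inj b b' (hCa b hb) (hCa b' hb') e)
    have := (lineV_clique hj (mem_filter.mp hb).2.2 (mem_filter.mp hb').2.2 hne').2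
    exact ⟨(h.iff b b' (hCa b hb) (hCa b' hb')).mpr this, this⟩
  have hsplit : ∀ (Q : Ω → Prop) [DecidablePred Q], (univ.filter Q).card =
      (if Q a then 1 else 0) + (univ.filter fun z => R a z ∧ Q z).card + (F.filter Q).card := by
    intro Q _
    rw [card_filter, card_filter, card_filter, hF, sum_filter, add_assoc, ← sum_add_distrib,
      ← add_sum_erase _ _ (mem_univ a), ← add_sum_erase _ _ (mem_univ a)]
    have ha := h.irrefl a
    rw [if_neg (fun hh : R a a ∧ Q a => ha hh.1), if_neg (fun hh : a ≠ a ∧ ¬ R a a => hh.1 rfl), add_zero, zero_add]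
    congr 1
    refine sum_congr rfl fun z hz => ?_
    have hza : z ≠ a := (mem_erase.mp hz).1
    by_cases hr : R a z <;> by_cases hq : Q z <;> simp [hza, hr, hq]
  have hone : ∀ b ∈ C, (F.filter (R b)).card = 81 := fun b hb => by
    have h1 := hsplit (R b)
    rw [h.deg b, if_pos (h.symm a b (hCa b hb)), h.lam a b (hCa b hb)] at h1
    omega
  have htwo : ∀ b ∈ C, ∀ b' ∈ C, b ≠ b' → (F.filter fun z => R b z ∧ R b' z).card = 27 := by
    intro b hb b' hb' hne
    obtain ⟨hR, hA⟩ := hclique b hb b' hb' hne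
    have h1 := hsplit fun z => R b z ∧ R b' z
    rw [h.lam b b' hR, if_pos ⟨h.symm a b (hCa b hb), h.symm a b' (hCa b' hb')⟩] at h1
    have h2 : (univ.filter fun z => R a z ∧ R b z ∧ R b' z).card = 2 := by
      rw [← card_triple (h.near b (hCa b hb)) (h.near b' (hCa b' hb')) hA,
        ← card_image_of_injOn (h.injOn fun z hz => (mem_filter.mp hz).2.1)]
      congr 1
      ext v
      simp only [mem_image, mem_filter, mem_univ, true_and, mem_inter, mem_nb]
      constructor
      · rintro ⟨z, ⟨hz, hbz, hbz'⟩, rfl⟩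
        exact ⟨⟨h.near z hz, (h.iff b z (hCa b hb) hz).mp hbz⟩, (h.iff b' z (hCa b' hb') hz).mp hbz'⟩
      · rintro ⟨⟨hv, h1⟩, h2⟩
        obtain ⟨z, hz, rfl⟩ := h.surj hv
        exact ⟨z, ⟨hz, (h.iff b z (hCa b hb) hz).mpr h1, (h.iff b' z (hCa b' hb') hz).mpr h2⟩, rfl⟩
    omega
  set t : Ω → ℕ := fun z => (C.filter fun b => R b z).card with ht
  have hFcard : F.card = 162 := by
    have h1 := hsplit fun _ => True
    simp only [and_true, if_true] at h1
    rw [filter_true_of_mem (fun _ _ => trivial), filter_true_of_mem (fun _ _ => trivial), card_univ, h.card,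
      h.deg a] at h1
    omega
  have hs1 : ∑ z ∈ F, t z = 324 := by
    simp only [ht, card_filter]
    rw [sum_comm]
    calc ∑ b ∈ C, ∑ z ∈ F, (if R b z then 1 else 0) = ∑ b ∈ C, 81 :=
          sum_congr rfl fun b hb => by rw [← card_filter, hone b hb]
      _ = 324 := by rw [sum_const, hCcard]; rfl
  have hs2 : ∑ z ∈ F, t z * t z = 648 := by
    simp only [ht, card_filter, sum_mul_sum]
    rw [sum_comm]
    calc ∑ b ∈ C, ∑ z ∈ F, ∑ b' ∈ C, (if R b z then 1 else 0) * (if R b' z then 1 else 0)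
        = ∑ b ∈ C, ∑ b' ∈ C, (F.filter fun z => R b z ∧ R b' z).card := by
          refine sum_congr rfl fun b _ => ?_
          rw [sum_comm]
          refine sum_congr rfl fun b' _ => ?_
          rw [card_filter]
          refine sum_congr rfl fun z _ => ?_
          by_cases h1 : R b z <;> by_cases h2 : R b' z <;> simp [h1, h2]
      _ = ∑ b ∈ C, 162 := by
          refine sum_congr rfl fun b hb => ?_
          rw [← add_sum_erase _ _ hb, show (F.filter fun z => R b z ∧ R b z).card = 81 by simpa using hone b hb,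
            sum_congr rfl (fun b' hb' => htwo b hb b' (mem_of_mem_erase hb') (ne_of_mem_erase hb').symm),
            sum_const, card_erase_of_mem hb, hCcard]
          rfl
      _ = 648 := by rw [sum_const, hCcard]; rfl
  have hzero : ∑ z ∈ F, ((t z : ℤ) - 2) ^ 2 = 0 := by
    have e : ∀ z, ((t z : ℤ) - 2) ^ 2 = ((t z * t z : ℕ) : ℤ) - 4 * (t z : ℤ) + 4 := fun z => by push_cast; ring
    rw [sum_congr rfl fun z _ => e z, sum_add_distrib, sum_sub_distrib, ← mul_sum, ← Nat.cast_sum, ← Nat.cast_sum,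
      hs1, hs2, sum_const, hFcard]
    norm_num
  have hx : x ∈ F := by simp [hF, hxa, hax]
  have := pow_eq_zero_iff (n := 2) (by norm_num) |>.mp
    ((sum_eq_zero_iff_of_nonneg fun z _ => sq_nonneg _).mp hzero x hx)
  have ht2 : t x = 2 := by omega
  rw [← ht2]
  simp only [ht]
  rw [← card_image_of_injOn (h.injOn fun z hz => hCa z (mem_filter.mp hz).1)]
  congr 1
  ext v
  simp only [mem_inter, mem_image, mem_filter, traceR, mem_univ, true_and, hC]
  constructor
  · rintro ⟨⟨z, ⟨hz, hxz⟩, rfl⟩, hv⟩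
    exact ⟨z, ⟨⟨hz, hv⟩, h.symm x z hxz⟩, rfl⟩
  · rintro ⟨z, ⟨⟨hz, hv⟩, hzx⟩, rfl⟩
    exact ⟨⟨z, ⟨hz, h.symm z x hzx⟩, rfl⟩, hv⟩

/-- With the traces forming one class, the graph is the model. -/
theorem Local.exists_iso
    (hclass : ∃ j < 4, ∀ k < 162, ∃ x, x ≠ a ∧ ¬ R a x ∧ traceR R a φ x = cls j k) :
    ∃ Θ : Ω ≃ V, ∀ x y, R x y ↔ Adj (Θ x) (Θ y) := by
  classical
  obtain ⟨j, hj, hclass⟩ := hclass
  set F := univ.filter fun z => z ≠ a ∧ ¬ R a z with hF
  have htr : ∀ k : Fin 162, (cls j k).image (tau j) = trace (farV k) := cls_image hj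
  have hinjc : Function.Injective fun k : Fin 162 => cls j k := cls_injective hj
  have hFcard : F.card ≤ 162 := by
    have : F = univ \ insert a (univ.filter (R a)) := by ext z; simp [hF]
    rw [this, card_univ_sdiff, h.card, card_insert_of_notMem (by simp [h.irrefl a]), h.deg]
  haveI : Nonempty Ω := ⟨a⟩
  choose! g hg1 hg2 hg3 using hclass
  have hcover : univ.image (fun k : Fin 162 => g k) = F := by
    refine eq_of_subset_of_card_le (fun z hz => ?_) ?_
    · obtain ⟨k, -, rfl⟩ := mem_image.mp hz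
      simp [hF, hg1 k k.2, hg2 k k.2]
    · rw [card_image_of_injective _ (fun k k' e => hinjc (by
        show cls j k = cls j k'
        rw [← hg3 k k.2, ← hg3 k' k'.2]
        exact congrArg (traceR R a φ) e)), card_univ, Fintype.card_fin]
      exact hFcard
  have hidx : ∀ x, x ≠ a → ¬ R a x → ∃ k : Fin 162, g k = x := fun x hx1 hx2 => by
    have : x ∈ F := by simp [hF, hx1, hx2]
    rw [← hcover] at this
    obtain ⟨k, -, e⟩ := mem_image.mp this
    exact ⟨k, e⟩
  let θ : Ω → V := fun x =>
    if x = a then 0 else if R a x then tau j (φ x) else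
      if hx : ∃ k : Fin 162, g k = x then farV hx.choose else 0
  have θa : θ a = 0 := if_pos rfl
  have θn : ∀ x, R a x → θ x = tau j (φ x) := fun x hx => by
    have : x ≠ a := fun e => h.irrefl a (e ▸ hx)
    simp [θ, this, hx]
  have θf : ∀ x, x ≠ a → ¬ R a x → ∃ k : Fin 162, g k = x ∧ θ x = farV k := fun x hx1 hx2 => by
    have hx := hidx x hx1 hx2
    exact ⟨hx.choose, hx.choose_spec, by simp [θ, hx1, hx2, hx]⟩
  have hnear : ∀ x, R a x → θ x ≠ 0 ∧ Adj 0 (θ x) := fun x hx => by
    rw [θn x hx]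
    have := (tau_adj hj (h.near x hx) (h.near x hx)).1
    exact ⟨fun e => adj_irrefl 0 (by rwa [e] at this), this⟩
  have hfar : ∀ x, x ≠ a → ¬ R a x → θ x ≠ 0 ∧ ¬ Adj 0 (θ x) := fun x hx1 hx2 => by
    obtain ⟨k, -, e⟩ := θf x hx1 hx2
    exact e ▸ farV_spec k
  have hadj0 : ∀ x, R a x ↔ Adj 0 (θ x) := fun x => by
    by_cases hx : x = a
    · subst hx
      exact iff_of_false (h.irrefl x) (θa ▸ adj_irrefl 0)
    · exact ⟨fun hr => (hnear x hr).2, fun hA => by_contra fun hr => (hfar x hx hr).2 hA⟩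
  have hθinj : Function.Injective θ := by
    intro x y e
    by_cases hx : x = a
    · by_cases hy : y = a
      · rw [hx, hy]
      · exfalso
        rw [hx, θa] at e
        by_cases hr : R a y
        exacts [(hnear y hr).1 e.symm, (hfar y hy hr).1 e.symm]
    by_cases hy : y = a
    · exfalso
      rw [hy, θa] at e
      by_cases hr : R a x
      exacts [(hnear x hr).1 e, (hfar x hx hr).1 e]
    by_cases hr : R a x
    · have hr' : R a y := (hadj0 y).mpr (e ▸ (hadj0 x).mp hr)
      rw [θn x hr, θn y hr'] at e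
      exact h.inj x y hr hr' ((tau j).injective e)
    · have hr' : ¬ R a y := fun h' => hr ((hadj0 x).mpr (e.symm ▸ (hadj0 y).mp h'))
      obtain ⟨k, ek, e1⟩ := θf x hx hr
      obtain ⟨k', ek', e2⟩ := θf y hy hr'
      rw [e1, e2] at e
      rw [← ek, ← ek', farV_injective e]
  have htrace : ∀ x, x ≠ a → ¬ R a x → ∀ z, R a z → (R x z ↔ Adj (θ x) (θ z)) := fun x hx1 hx2 z hz => by
    obtain ⟨k, ek, e⟩ := θf x hx1 hx2
    rw [← h.mem_traceR hz, e, ← ek, hg3 k k.2, θn z hz, ← (tau j).injective.mem_finset_image, htr k, trace,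
      mem_inter, mem_nb, mem_nb]
    exact and_iff_right (tau_adj hj (h.near z hz) (h.near z hz)).1
  have hfarfar : ∀ x, x ≠ a → ¬ R a x → ∀ y, y ≠ a → ¬ R a y → (R x y ↔ Adj (θ x) (θ y)) := by
    intro x hx1 hx2
    set A := univ.filter fun y => y ≠ a ∧ ¬ R a y ∧ R x y with hA
    have hsub : A.image θ ⊆ nb (θ x) \ insert 0 (nb 0) := fun v hv => by
      obtain ⟨y, hy, rfl⟩ := mem_image.mp hv
      simp only [hA, mem_filter, mem_univ, true_and] at hy
      obtain ⟨h0, h1⟩ := hfar y hy.1 hy.2.1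
      refine mem_sdiff.mpr ⟨mem_nb.mpr ?_, by simp [mem_nb, h0, h1]⟩
      by_contra hn
      have hne : θ y ≠ θ x := fun e => h.irrefl x (by
        have := hθinj e; subst this; exact hy.2.2)
      have h31 := (far_counts (hfar x hx1 hx2).1 (hfar x hx1 hx2).2).2.2 (θ y) h0 h1 hne hn
      have hle : (trace (θ x) ∩ trace (θ y)).card ≤ (univ.filter fun z => R x z ∧ R y z).card := by
        refine (card_le_card fun v hv => ?_).trans (card_image_le (f := θ))
        simp only [trace, mem_inter, mem_nb] at hv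
        obtain ⟨⟨hv0, hvx⟩, -, hvy⟩ := hv
        obtain ⟨z, hz, e⟩ : ∃ z, R a z ∧ θ z = v := by
          have : (univ.filter (R a)).image θ = nb 0 := by
            refine eq_of_subset_of_card_le (fun w hw => ?_) ?_
            · obtain ⟨z, hz, rfl⟩ := mem_image.mp hw
              exact mem_nb.mpr (hnear z (mem_filter.mp hz).2).2
            · rw [card_nb, card_image_of_injective _ hθinj, h.deg]
          have hm := mem_nb.mpr hv0
          rw [← this] at hm
          obtain ⟨z, hz, e⟩ := mem_image.mp hm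
          exact ⟨z, (mem_filter.mp hz).2, e⟩
        subst e
        exact mem_image.mpr ⟨z, by simp [(htrace x hx1 hx2 z hz).mpr hvx, (htrace y hy.1 hy.2.1 z hz).mpr hvy], rfl⟩
      rw [h.lam x y hy.2.2] at hle
      omega
    have hAcard : A.card = 56 := by
      have h1 : univ.filter (R x) = (univ.filter fun z => R a z ∧ R x z) ∪ A := by
        ext z
        simp only [hA, mem_filter, mem_univ, true_and, mem_union]
        refine ⟨fun hz => ?_, fun hz => hz.elim And.right fun h' => h'.2.2⟩
        by_cases hr : R a z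
        · exact Or.inl ⟨hr, hz⟩
        · exact Or.inr ⟨fun e => hx2 (h.symm x a (e ▸ hz)), hr, hz⟩
      have h2 := congrArg Finset.card h1
      rw [h.deg, card_union_of_disjoint (by
        rw [disjoint_left]; intro z hz hz'; exact (mem_filter.mp hz').2.2.1 (mem_filter.mp hz).2.1),
        h.mu a x hx1.symm hx2] at h2
      omega
    have heq := eq_of_subset_of_card_le hsub
      (by rw [(far_counts (hfar x hx1 hx2).1 (hfar x hx1 hx2).2).2.1, card_image_of_injective _ hθinj, hAcard])
    intro y hy1 hy2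
    obtain ⟨h0, h1⟩ := hfar y hy1 hy2
    have : θ y ∈ A.image θ ↔ Adj (θ x) (θ y) := by
      rw [heq]; simp [mem_nb, h0, h1]
    rw [← this, hθinj.mem_finset_image]
    simp [hA, hy1, hy2]
  refine ⟨Equiv.ofBijective θ ((Fintype.bijective_iff_injective_and_card θ).mpr ⟨hθinj, by
    rw [h.card, Fintype.card_fin]⟩), fun x y => ?_⟩
  show R x y ↔ Adj (θ x) (θ y)
  have comm : ∀ x y, (R x y ↔ R y x) := fun x y => ⟨h.symm x y, h.symm y x⟩
  by_cases hx : x = a
  · subst hx; rw [θa]; exact hadj0 y
  by_cases hy : y = a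
  · subst hy; rw [θa, adj_comm, comm]; exact hadj0 x
  by_cases hrx : R a x <;> by_cases hry : R a y
  · rw [θn x hrx, θn y hry, (tau_adj hj (h.near x hrx) (h.near y hry)).2, h.iff x y hrx hry]
  · rw [adj_comm, comm]; exact htrace y hy hry x hrx
  · exact htrace x hx hrx y hry
  · exact hfarfar x hx hrx y hy hry

end CfsgLib.McLRecog
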