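/-
Subgroups of index 112 in the point stabiliser fix a neighbour of the point, up to conjugation.
-/
import Cfsg.Agent.Lib.McLRecog.Model

set_option autoImplicit false
set_option maxRecDepth 30000
set_option linter.style.haveILetI false

namespace CfsgLib.McLRecog

open Equiv Cfsg CfsgPC
open scoped Pointwise

/-- A set of neighbours invariant under the Sylow subgroup is made of its orbits. -/
theorem invariant_split {T : Finset V} (hsub : T ⊆ nb 0) (hinv : ∀ p ∈ P, ∀ x ∈ T, p x ∈ T) :
    T.card = (T ∩ orbP 0).card + (T ∩ orbP 1).card + (T ∩ orbP 2).card + (T ∩ orbP 3).card ∧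
      ∀ a < 4, (T ∩ orbP a).card = 0 ∨ (orbP a ⊆ T ∧ (T ∩ orbP a).card = [1, 3, 27, 81].getD a 0) := by
  classical
  refine ⟨?_, fun a ha => ?_⟩
  · have hU : (Finset.range 4).biUnion orbP = nb 0 := by
      ext i
      simp only [Finset.mem_biUnion, Finset.mem_range, mem_nb, orbP_cover]
    have hd : ∀ a ∈ Finset.range 4, ∀ b ∈ Finset.range 4, a ≠ b → Disjoint (orbP a) (orbP b) := by
      have hsum : ((Finset.range 4).biUnion orbP).card = ∑ a ∈ Finset.range 4, (orbP a).card := by
        rw [hU, card_nb, Finset.sum_range_succ, Finset.sum_range_succ, Finset.sum_range_succ, Finset.sum_range_one,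
          orbP_card (by norm_num), orbP_card (by norm_num), orbP_card (by norm_num), orbP_card (by norm_num)]
        rfl
      intro a ha b hb hne
      rw [Finset.disjoint_left]
      intro x hxa hxb
      have h1 : ((Finset.range 4).biUnion orbP).card ≤
          (orbP a \ {x}).card + ∑ c ∈ (Finset.range 4).erase a, (orbP c).card := by
        have hsubU : (Finset.range 4).biUnion orbP ⊆ (orbP a \ {x}) ∪ ((Finset.range 4).erase a).biUnion orbP := by
          intro y hy
          obtain ⟨c, hc, hyc⟩ := Finset.mem_biUnion.mp hy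
          by_cases hca : c = a
          · subst hca
            by_cases hyx : y = x
            · subst hyx
              exact Finset.mem_union_right _ (Finset.mem_biUnion.mpr ⟨b, Finset.mem_erase.mpr ⟨hne.symm, hb⟩, hxb⟩)
            · exact Finset.mem_union_left _ (by simp [hyc, hyx])
          · exact Finset.mem_union_right _ (Finset.mem_biUnion.mpr ⟨c, Finset.mem_erase.mpr ⟨hca, hc⟩, hyc⟩)
        exact (Finset.card_le_card hsubU).trans ((Finset.card_union_le _ _).trans
          (Nat.add_le_add_left Finset.card_biUnion_le _))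
      rw [hsum, ← Finset.add_sum_erase _ _ ha, Finset.sdiff_singleton_eq_erase] at h1
      have := Finset.card_erase_lt_of_mem hxa
      omega
    have : T = (Finset.range 4).biUnion fun a => T ∩ orbP a := by
      rw [← Finset.inter_biUnion, hU, Finset.inter_eq_left.mpr hsub]
    conv_lhs => rw [this]
    rw [Finset.card_biUnion fun a ha b hb hne =>
      (hd a ha b hb hne).mono Finset.inter_subset_right Finset.inter_subset_right]
    simp [Finset.sum_range_succ]
  · by_cases h : (T ∩ orbP a).card = 0
    · exact Or.inl h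
    · obtain ⟨x, hx⟩ := Finset.card_pos.mp (Nat.pos_of_ne_zero h)
      rw [Finset.mem_inter] at hx
      have hs : orbP a ⊆ T := fun y hy => by
        obtain ⟨p, hp, rfl⟩ := orbP_trans ha hx.2 hy
        exact hinv p hp x hx.1
      exact Or.inr ⟨hs, by rw [Finset.inter_eq_right.mpr hs, orbP_card ha]⟩

/-- The stabiliser of the base neighbour. -/
noncomputable abbrev Wk : Subgroup W := MulAction.stabilizer W k0v

theorem index_Wk : Wk.index = 112 := by
  rw [MulAction.index_stabilizer]
  have : MulAction.orbit W k0v = (nb 0 : Set V) := by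
    ext i
    refine ⟨fun ⟨w, hw⟩ => ?_, fun hi => ?_⟩
    · rw [Finset.mem_coe, mem_nb, ← hw]
      exact (W_adj w.2).mpr k0v_adj
    · obtain ⟨w, hw, e⟩ := trans_near (mem_nb.mp hi)
      exact ⟨⟨w, hw⟩, e⟩
  rw [this, Set.ncard_coe_finset, card_nb]

/-- Subgroups of index 112 are conjugate to the stabiliser of a neighbour. -/
theorem index_112 (H : Subgroup W) (hH : H.index = 112) :
    ∃ w : W, H.map (MulAut.conj w).toMonoidHom = Wk := by
  classical
  haveI : Fact (Nat.Prime 3) := ⟨Nat.prime_three⟩
  have hcH : Nat.card H = 29160 := by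
    have := H.card_mul_index
    rw [hH, card_W] at this
    omega
  have hfac : (Nat.card W).factorization 3 = 6 := by
    rw [card_W, show 3265920 = 3 ^ 6 * 4480 by norm_num, Nat.factorization_mul (by norm_num) (by norm_num),
      Finsupp.add_apply, Nat.Prime.factorization_pow Nat.prime_three, Finsupp.single_eq_same,
      Nat.factorization_eq_zero_of_not_dvd (by norm_num)]
  let S1 : Sylow 3 W := Sylow.ofCard (P.subgroupOf W) (by
    rw [hfac, Nat.card_congr (Subgroup.subgroupOfEquivOfLe P_le).toEquiv, card_P]; norm_num)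
  obtain ⟨K, hK⟩ := Sylow.exists_subgroup_card_pow_prime (G := H) 3 (n := 6) (by rw [hcH]; norm_num)
  let S2 : Sylow 3 W := Sylow.ofCard (K.map H.subtype) (by
    rw [hfac, ← Nat.card_congr (K.equivMapOfInjective _ H.subtype_injective).toEquiv, hK])
  obtain ⟨w, hw⟩ := MulAction.exists_smul_eq W S2 S1
  refine ⟨w, ?_⟩
  set H' := H.map (MulAut.conj w).toMonoidHom with hH'
  have hidx : H'.index = 112 := (Subgroup.index_map_equiv H (MulAut.conj w)).trans hH
  have hPH : ∀ p ∈ P, ∀ hp : p ∈ W, (⟨p, hp⟩ : W) ∈ H' := fun p hpP hp => by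
    have h1 : (⟨p, hp⟩ : W) ∈ (S1 : Subgroup W) := hpP
    rw [← hw, Sylow.coe_subgroup_smul] at h1
    obtain ⟨q, hq, e⟩ := h1
    obtain ⟨r, -, rfl⟩ := hq
    exact ⟨r.1, r.2, e⟩
  let T : Finset V := Finset.univ.filter fun x => x ∈ MulAction.orbit H' k0v
  have hT : T.card = (MulAction.orbit H' k0v).ncard := by
    rw [← Set.ncard_coe_finset]
    congr 1
    ext x
    simp [T]
  have hsub : T ⊆ nb 0 := fun x hx => by
    obtain ⟨g, hg⟩ := (Finset.mem_filter.mp hx).2
    rw [mem_nb, ← hg]
    exact (W_adj g.1.2).mpr k0v_adj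
  have hinv : ∀ p ∈ P, ∀ x ∈ T, p x ∈ T := fun p hp x hx => by
    obtain ⟨g, hg⟩ := (Finset.mem_filter.mp hx).2
    refine Finset.mem_filter.mpr ⟨Finset.mem_univ _, ⟨⟨⟨p, P_le hp⟩, hPH p hp _⟩ * g, ?_⟩⟩
    exact (mul_smul _ _ k0v).trans (congrArg p hg)
  obtain ⟨hsum, hparts⟩ := invariant_split hsub hinv
  have hdvd : T.card ∣ 29160 := by
    have h1 := (MulAction.stabilizer H' k0v).card_mul_index
    rw [MulAction.index_stabilizer, ← hT] at h1
    have hc' : Nat.card H' = 29160 := by
      have := H'.card_mul_index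
      rw [hidx, card_W] at this
      omega
    exact ⟨Nat.card (MulAction.stabilizer H' k0v), by rw [← hc', ← h1, mul_comm]⟩
  have h0 : (T ∩ orbP 0).card = 1 := by
    rw [orbP_zero, Finset.inter_singleton_of_mem
      (Finset.mem_filter.mpr ⟨Finset.mem_univ _, MulAction.mem_orbit_self _⟩), Finset.card_singleton]
  have h2 : (T ∩ orbP 2).card = 0 ∧ (T ∩ orbP 3).card = 0 := by
    rcases hparts 1 (by norm_num) with a | ⟨-, a⟩ <;> rcases hparts 2 (by norm_num) with b | ⟨-, b⟩ <;>
      rcases hparts 3 (by norm_num) with c | ⟨-, c⟩ <;> simp (config := { failIfUnchanged := false }) only [List.getD_cons_succ, List.getD_cons_zero] at a b c <;>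
      (rw [hsum, h0, a, b, c] at hdvd) <;> norm_num at hdvd <;> exact ⟨b, c⟩
  rcases hparts 1 (by norm_num) with h1 | ⟨hs1, h1⟩
  · -- one point
    have hT1 : T.card = 1 := by rw [hsum, h0, h1, h2.1, h2.2]
    have hle : H' ≤ Wk := fun g hg => by
      have hm : (g • k0v : V) ∈ T := Finset.mem_filter.mpr ⟨Finset.mem_univ _, ⟨⟨g, hg⟩, rfl⟩⟩
      have hk : k0v ∈ T := Finset.mem_filter.mpr ⟨Finset.mem_univ _, MulAction.mem_orbit_self _⟩
      exact Finset.card_le_one.mp (le_of_eq hT1) _ hm _ hk
    refine Subgroup.eq_of_le_of_card_ge hle (le_of_eq ?_)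
    have := H'.card_mul_index
    have := Wk.card_mul_index
    rw [index_Wk] at this
    rw [hidx] at *
    omega
  · -- the points of a line
    exfalso
    simp only [List.getD_cons_succ, List.getD_cons_zero] at h1
    have hT4 : T.card = 4 := by rw [hsum, h0, h1, h2.1, h2.2]
    have hTL : T = lineV line0 := by
      refine (Finset.eq_of_subset_of_card_le ?_ (by rw [hT4, lineV_card line_reach.1])).symm
      rw [← orbP_line, Finset.insert_subset_iff]
      exact ⟨Finset.mem_filter.mpr ⟨Finset.mem_univ _, MulAction.mem_orbit_self _⟩, hs1⟩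
    have hle : H' ≤ MulAction.stabilizer W (lineV line0) := fun g hg => by
      rw [MulAction.mem_stabilizer_iff, ← hTL]
      refine Finset.eq_of_subset_of_card_le (fun x hx => ?_) (by rw [Finset.card_smul_finset])
      obtain ⟨y, hy, rfl⟩ := Finset.mem_smul_finset.mp hx
      obtain ⟨h, hh⟩ := (Finset.mem_filter.mp hy).2
      exact Finset.mem_filter.mpr ⟨Finset.mem_univ _, ⟨⟨g, hg⟩ * h,
        (mul_smul _ _ k0v).trans (congrArg (g • ·) hh)⟩⟩
    have := Nat.le_of_dvd (by rw [hidx]; norm_num) (Subgroup.index_dvd_of_le hle)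
    rw [hidx, MulAction.index_stabilizer] at this
    have := line_orbit
    omega

end CfsgLib.McLRecog
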