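/-
A group on 275 points with stabiliser PSU(4, 3) and suborbits 1, 112, 162 is McL.
-/
import Cfsg.Agent.Lib.McLRecog.Graph
import Cfsg.Agent.Lib.McLRecog.Index
import Cfsg.Agent.Lib.UnitarySimple

set_option autoImplicit false
set_option maxRecDepth 30000
set_option maxHeartbeats 1000000
set_option linter.style.haveILetI false
set_option linter.unusedSectionVars false

namespace CfsgLib.McLRecog

open Cfsg
open scoped Pointwise

variable {Ω : Type*} [Fintype Ω] [DecidableEq Ω] {G : Subgroup (Equiv.Perm Ω)}

theorem card_stab_pair (a y : Ω) :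
    Nat.card ↥(MulAction.stabilizer G (a, y)) =
      Nat.card ↥(MulAction.stabilizer (MulAction.stabilizer G a) y) :=
  Nat.card_congr
    { toFun := fun g => ⟨⟨g.1, congrArg Prod.fst g.2⟩, congrArg Prod.snd g.2⟩
      invFun := fun g => ⟨g.1.1, Prod.ext g.1.2 g.2⟩
      left_inv := fun _ => rfl
      right_inv := fun _ => rfl }

theorem pair_orbit [MulAction.IsPretransitive G Ω] (a y : Ω) :
    (MulAction.orbit G (a, y)).ncard =
      Fintype.card Ω * (MulAction.orbit (MulAction.stabilizer G a) y).ncard := by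
  have o1 := (MulAction.stabilizer G (a, y)).card_mul_index
  have o2 := (MulAction.stabilizer (MulAction.stabilizer G a) y).card_mul_index
  have o3 := (MulAction.stabilizer G a).card_mul_index
  rw [MulAction.index_stabilizer] at o1 o2
  rw [MulAction.index_stabilizer_of_transitive, Nat.card_eq_fintype_card (α := Ω)] at o3
  rw [← o3, ← o2, card_stab_pair, mul_assoc] at o1
  rw [Nat.eq_of_mul_eq_mul_left Nat.card_pos o1]
  ring

/-- A perfect group acting faithfully on the model graph with the order of McL is McL. -/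
theorem iso_of_action (Γ : Type*) [Group Γ] [Finite Γ] (hperf : commutator Γ = ⊤) (hcard : Nat.card Γ = 898128000)
    (f : Γ →* AutG) (hf : Function.Injective f) : Nonempty (Γ ≃* M) := by
  set Q := M.subgroupOf AutG with hQ
  have hQc : Nat.card Q = 898128000 := by
    rw [Nat.card_congr (Subgroup.subgroupOfEquivOfLe M_le_AutG).toEquiv, card_M]
  have hidx : Q.index = 1 ∨ Q.index = 2 := by
    have h1 := Q.card_mul_index
    have h2 := card_AutG
    have h3 : 0 < Q.index := Nat.pos_of_ne_zero Subgroup.index_ne_zero_of_finite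
    rw [hQc] at h1
    omega
  have hle : f.range ≤ Q := by
    rcases hidx with h | h
    · rw [Subgroup.index_eq_one.mp h]; exact le_top
    · haveI : Q.Normal := Subgroup.normal_of_index_eq_two h
      haveI : Fact (Nat.Prime 2) := ⟨Nat.prime_two⟩
      haveI : IsCyclic (AutG ⧸ Q) := isCyclic_of_prime_card (p := 2) (by rw [← Subgroup.index_eq_card, h])
      have hc : commutator AutG ≤ Q :=
        Subgroup.Normal.quotient_commutative_iff_commutator_le.mp IsCyclic.isMulCommutative
      refine le_trans ?_ hc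
      rw [MonoidHom.range_eq_map, ← hperf, commutator_def, commutator_def, Subgroup.map_commutator]
      exact Subgroup.commutator_mono le_top le_top
  have heq : f.range = Q := Subgroup.eq_of_le_of_card_ge hle
    (by rw [hQc, ← Nat.card_congr (MonoidHom.ofInjective hf).toEquiv, hcard])
  exact ⟨(MonoidHom.ofInjective hf).trans ((MulEquiv.subgroupCongr heq).trans
    (Subgroup.subgroupOfEquivOfLe M_le_AutG))⟩

theorem recognise (hΩ : Fintype.card Ω = 275) [MulAction.IsPretransitive G Ω] (a : Ω)
    (K : Type) [Field K] [Fintype K] (hK : Fintype.card K = 9)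
    (e : MulAction.stabilizer G a ≃* PSU 4 K 3) (b c : Ω)
    (hb : (MulAction.orbit (MulAction.stabilizer G a) b).ncard = 112)
    (hc : (MulAction.orbit (MulAction.stabilizer G a) c).ncard = 162) : Spor.IsoMcL G := by
  classical
  set S := MulAction.stabilizer G a with hS
  have hsing : MulAction.orbit S a = {a} := by
    ext y
    exact ⟨fun ⟨g, hg⟩ => hg ▸ g.2, fun h => by rw [Set.mem_singleton_iff.mp h]; exact MulAction.mem_orbit_self _⟩
  have horbit : ∀ y, y = a ∨ y ∈ MulAction.orbit S b ∨ y ∈ MulAction.orbit S c := by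
    have d1 : Disjoint ({a} : Set Ω) (MulAction.orbit S b) := Set.disjoint_singleton_left.mpr fun h => by
      rw [← MulAction.orbit_eq_iff, hsing] at h
      rw [← h, Set.ncard_singleton] at hb; omega
    have d2 : Disjoint ({a} : Set Ω) (MulAction.orbit S c) := Set.disjoint_singleton_left.mpr fun h => by
      rw [← MulAction.orbit_eq_iff, hsing] at h
      rw [← h, Set.ncard_singleton] at hc; omega
    have d3 : Disjoint (MulAction.orbit S b) (MulAction.orbit S c) := Set.disjoint_left.mpr fun y h1 h2 => by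
      rw [← MulAction.orbit_eq_iff] at h1 h2
      rw [← h1, h2] at hb; omega
    have h : ({a} ∪ MulAction.orbit S b ∪ MulAction.orbit S c : Set Ω) = Set.univ := by
      refine Set.eq_of_subset_of_ncard_le (Set.subset_univ _) ?_
      rw [Set.ncard_univ, Nat.card_eq_fintype_card, hΩ, Set.ncard_union_eq (d2.union_left d3),
        Set.ncard_union_eq d1, Set.ncard_singleton, hb, hc]
    intro y
    simpa [or_assoc] using Set.eq_univ_iff_forall.mp h y
  have hba : b ≠ a := fun h => by
    rw [h, hsing, Set.ncard_singleton] at hb; omega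
  have hca : c ≠ a := fun h => by
    rw [h, hsing, Set.ncard_singleton] at hc; omega
  have hself : (b, a) ∈ MulAction.orbit G (a, b) := by
    obtain ⟨g, hg⟩ := MulAction.exists_smul_eq G b a
    have hsw : (MulAction.orbit G (b, a)).ncard = (MulAction.orbit G (a, b)).ncard := by
      rw [← Set.ncard_image_of_injective (MulAction.orbit G (a, b)) (f := Prod.swap) Prod.swap_injective]
      congr 1
      ext p
      constructor
      · rintro ⟨k, rfl⟩; exact ⟨_, ⟨k, rfl⟩, rfl⟩
      · rintro ⟨_, ⟨k, rfl⟩, rfl⟩; exact ⟨k, rfl⟩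
    have hmem : (a, g • a) ∈ MulAction.orbit G (b, a) := ⟨g, Prod.ext hg rfl⟩
    have h1 := pair_orbit (G := G) a (g • a)
    rw [MulAction.orbit_eq_iff.mpr hmem, hsw, pair_orbit, hb, hΩ] at h1
    rcases horbit (g • a) with h | h | h
    · exfalso
      rw [h, hsing, Set.ncard_singleton] at h1; omega
    · obtain ⟨s, hs⟩ := h
      refine ⟨g⁻¹ * (s : G), ?_⟩
      show ((g⁻¹ * (s : G)) • a, (g⁻¹ * (s : G)) • b) = (b, a)
      rw [mul_smul, mul_smul, show (s : G) • a = a from s.2, show (s : G) • b = g • a from hs, ← hg,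
        inv_smul_smul, inv_smul_smul]
    · exfalso
      rw [MulAction.orbit_eq_iff.mpr h, hc] at h1; omega
  let R : Ω → Ω → Prop := fun x y => ∃ g : G, g • a = x ∧ g • b = y
  have hsymm : ∀ x y, R x y → R y x := fun x y ⟨g, hx, hy⟩ => by
    obtain ⟨s, hs⟩ := hself
    have hs' : s • a = b ∧ s • b = a := ⟨congrArg Prod.fst hs, congrArg Prod.snd hs⟩
    exact ⟨g * s, by rw [mul_smul, hs'.1, hy], by rw [mul_smul, hs'.2, hx]⟩
  have hirr : ∀ x, ¬ R x x := fun x ⟨g, hx, hy⟩ => hba (MulAction.injective g (hy.trans hx.symm))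
  have hmap : ∀ (g : G) (x y : Ω), R x y → R (g • x) (g • y) := fun g x y ⟨h, hx, hy⟩ =>
    ⟨g * h, by rw [mul_smul, hx], by rw [mul_smul, hy]⟩
  have hiff : ∀ (g : G) (x y : Ω), R (g • x) (g • y) ↔ R x y := fun g x y =>
    ⟨fun h => by simpa using hmap g⁻¹ _ _ h, hmap g x y⟩
  have hNa : ∀ y, R a y ↔ y ∈ MulAction.orbit S b := fun y =>
    ⟨fun ⟨g, hx, hy⟩ => ⟨⟨g, hx⟩, hy⟩, fun ⟨g, hg⟩ => ⟨g.1, g.2, hg⟩⟩
  have hac : ¬ R a c := fun h => by
    rw [hNa, ← MulAction.orbit_eq_iff] at h
    rw [h, hb] at hc; omega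
  have hdeg : ∀ x, (Finset.univ.filter (R x)).card = 112 := by
    intro x
    obtain ⟨g, rfl⟩ := MulAction.exists_smul_eq G a x
    rw [← Set.ncard_coe_finset, ← hb]
    have : (↑(Finset.univ.filter (R (g • a))) : Set Ω) = (g • ·) '' MulAction.orbit S b := by
      ext y
      simp only [Finset.coe_filter, Finset.mem_univ, true_and, Set.mem_ofPred_eq, Set.mem_image, ← hNa]
      exact ⟨fun h => ⟨g⁻¹ • y, (hiff g _ _).mp (by rwa [smul_inv_smul]), smul_inv_smul g y⟩,
        fun ⟨z, hz, e⟩ => e ▸ hmap g _ _ hz⟩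
    rw [this, Set.ncard_image_of_injective _ (MulAction.injective g)]
  let cm : Ω → Ω → ℕ := fun x y => (Finset.univ.filter fun z => R x z ∧ R y z).card
  have hcm : ∀ (g : G) (x y : Ω), cm (g • x) (g • y) = cm x y := by
    intro g x y
    refine Finset.card_nbij' (fun z => g⁻¹ • z) (fun z => g • z) ?_ ?_ ?_ ?_
    · intro z hz
      simp only [Finset.coe_filter, Finset.mem_univ, true_and, Set.mem_ofPred_eq] at hz ⊢
      exact ⟨by simpa using hmap g⁻¹ _ _ hz.1, by simpa using hmap g⁻¹ _ _ hz.2⟩
    · intro z hz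
      simp only [Finset.coe_filter, Finset.mem_univ, true_and, Set.mem_ofPred_eq] at hz ⊢
      exact ⟨hmap g _ _ hz.1, hmap g _ _ hz.2⟩
    · exact fun z _ => smul_inv_smul g z
    · exact fun z _ => inv_smul_smul g z
  set l := cm a b with hl
  set m := cm a c with hm
  have hadj : ∀ x y, R x y → cm x y = l := fun x y ⟨g, hx, hy⟩ => by rw [← hx, ← hy, hcm]
  have hnadj : ∀ x y, x ≠ y → ¬ R x y → cm x y = m := by
    intro x y hne hna
    obtain ⟨g, rfl⟩ := MulAction.exists_smul_eq G a x
    rw [← smul_inv_smul g y, hcm]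
    rcases horbit (g⁻¹ • y) with h | h | h
    · exact absurd (by rw [← h, smul_inv_smul]) hne
    · exact absurd (by rw [← smul_inv_smul g y]; exact hmap g _ _ ((hNa _).mpr h)) hna
    · obtain ⟨s, hs⟩ := h
      rw [← hs]
      have := hcm s.1 a c
      rwa [show (s.1 : G) • a = a from s.2] at this
  have hfar : (Finset.univ.filter fun y => y ≠ a ∧ ¬ R a y).card = 162 := by
    have : (Finset.univ.filter fun y => y ≠ a ∧ ¬ R a y) =
        Finset.univ \ insert a (Finset.univ.filter (R a)) := by
      ext y; simp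
    rw [this, Finset.card_univ_sdiff, hΩ, Finset.card_insert_of_notMem (by simp [hirr a]), hdeg]
  have hcount : 112 * 112 = 112 + 112 * l + 162 * m := by
    have h0 : ∑ z ∈ Finset.univ.filter (R a), (Finset.univ.filter (R z)).card = ∑ y, cm a y := by
      simp only [cm, Finset.card_filter, ite_and]
      rw [Finset.sum_comm]
      refine Finset.sum_congr rfl fun y _ => ?_
      rw [Finset.sum_filter]
      refine Finset.sum_congr rfl fun z _ => ?_
      have e : R y z ↔ R z y := ⟨hsymm y z, hsymm z y⟩
      by_cases h1 : R a z <;> by_cases h2 : R z y <;> simp_all [R]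
    rw [Finset.sum_congr rfl (fun z _ => hdeg z), Finset.sum_const, hdeg a, smul_eq_mul] at h0
    have e1 : ∀ y, cm a y = (if y = a then 112 else 0) + (if R a y then l else 0) +
        (if y ≠ a ∧ ¬ R a y then m else 0) := by
      intro y
      by_cases h1 : y = a
      · subst h1
        simp [cm, hdeg, hirr]
      · by_cases h2 : R a y
        · simp [h1, h2, hadj a y h2]
        · simp [h1, h2, hnadj a y (Ne.symm h1) h2]
    rw [Finset.sum_congr rfl fun y _ => e1 y, Finset.sum_add_distrib, Finset.sum_add_distrib, Finset.sum_ite_eq',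
      ← Finset.sum_filter, ← Finset.sum_filter, Finset.sum_const, Finset.sum_const, hdeg, hfar] at h0
    simpa using h0
  -- the stabiliser and the model
  haveI : IsSimpleGroup (PSU 4 K 3) :=
    CfsgLib.UnitarySimple.simple (F := K) (q := 3) (by rw [hK]; norm_num) (by norm_num) (by norm_num)
  obtain ⟨eW⟩ := W_iso K hK
  set ι0 := e.trans eW
  obtain ⟨w, hw⟩ := index_112 ((MulAction.stabilizer S b).map ι0.toMonoidHom) (by
    have := Subgroup.index_map_equiv (MulAction.stabilizer S b) ι0
    rw [MulAction.index_stabilizer, hb] at this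
    exact this)
  set ι := ι0.trans (MulAut.conj w) with hι
  have hstab : ∀ s : S, s • b = b ↔ ι s • k0v = k0v := fun s => by
    rw [← MulAction.mem_stabilizer_iff, ← MulAction.mem_stabilizer_iff (g := ι s), show
      MulAction.stabilizer W k0v = Wk from rfl, ← hw, Subgroup.map_map]
    exact (Subgroup.mem_map_iff_mem
      (f := (MulAut.conj w).toMonoidHom.comp ι0.toMonoidHom) (MulEquiv.injective ι)).symm
  let φ : Ω → V := fun x => if hx : ∃ s : S, s • b = x then ι hx.choose • k0v else 0
  have hφ : ∀ s : S, φ (s • b) = ι s • k0v := fun s => by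
    have hx : ∃ t : S, t • b = s • b := ⟨s, rfl⟩
    simp only [φ, dif_pos hx]
    have h1 : (s⁻¹ * hx.choose) • b = b := by rw [mul_smul, hx.choose_spec, inv_smul_smul]
    rw [hstab, map_mul, map_inv, mul_smul, inv_smul_eq_iff] at h1
    exact h1
  have hlift : ∀ x, R a x → ∃ s : S, s • b = x := fun x hx => (hNa x).mp hx
  have hφeq : ∀ (s : S) (x : Ω), R a x → φ (s • x) = ι s • φ x := fun s x hx => by
    obtain ⟨t, rfl⟩ := hlift x hx
    rw [← mul_smul, hφ, hφ, map_mul, mul_smul]
  have hfix : ∀ (s : S) (x y : Ω), R (s • x) (s • y) ↔ R x y := fun s x y => hiff s.1 x y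
  have hSa : ∀ (s : S), s • a = a := fun s => s.2
  have hRa : ∀ (s : S) (x : Ω), R a (s • x) ↔ R a x := fun s x => by
    conv_lhs => rw [← hSa s]
    exact hfix s a x
  have hnear : ∀ x, R a x → Adj 0 (φ x) := fun x hx => by
    obtain ⟨s, rfl⟩ := hlift x hx
    rw [hφ]
    exact (W_adj (ι s).2).mpr k0v_adj
  have hinj : ∀ x y, R a x → R a y → φ x = φ y → x = y := fun x y hx hy h => by
    obtain ⟨s, rfl⟩ := hlift x hx
    obtain ⟨t, rfl⟩ := hlift y hy
    rw [hφ, hφ, eq_comm, ← inv_smul_eq_iff, ← map_inv, ← mul_smul, ← map_mul, ← hstab, mul_smul,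
      inv_smul_eq_iff] at h
    exact h.symm
  have hkb : φ b = k0v := by
    have := hφ 1
    rwa [one_smul, map_one, one_smul] at this
  have hab : R a b := ⟨1, one_smul _ _, one_smul _ _⟩
  -- neighbours of b among those of a
  set T := (Finset.univ.filter fun z => R a z ∧ R b z).image φ with hT
  have hTc : T.card = l := Finset.card_image_of_injOn fun x hx y hy h =>
    hinj x y (Finset.mem_filter.mp hx).2.1 (Finset.mem_filter.mp hy).2.1 h
  have hTsub : T ⊆ nb 0 := fun v hv => by
    obtain ⟨x, hx, rfl⟩ := Finset.mem_image.mp hv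
    exact mem_nb.mpr (hnear x (Finset.mem_filter.mp hx).2.1)
  have hTinv : ∀ p ∈ P, ∀ v ∈ T, p v ∈ T := fun p hp v hv => by
    obtain ⟨x, hx, rfl⟩ := Finset.mem_image.mp hv
    simp only [Finset.mem_filter, Finset.mem_univ, true_and] at hx
    obtain ⟨s, hs⟩ := ι.surjective ⟨p, P_le hp⟩
    have hsb : s • b = b := by
      rw [hstab, hs]
      exact P_fix hp
    refine Finset.mem_image.mpr ⟨s • x, Finset.mem_filter.mpr ⟨Finset.mem_univ _, (hRa s x).mpr hx.1, ?_⟩, ?_⟩
    · rw [← hsb]; exact (hfix s b x).mpr hx.2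
    · rw [hφeq s x hx.1, hs]; rfl
  obtain ⟨hTsum, hTparts⟩ := invariant_split hTsub hTinv
  have hT0 : (T ∩ orbP 0).card = 0 := by
    rw [orbP_zero, Finset.inter_singleton_of_notMem, Finset.card_empty]
    intro hk
    obtain ⟨x, hx, ex⟩ := Finset.mem_image.mp hk
    simp only [Finset.mem_filter, Finset.mem_univ, true_and] at hx
    exact hirr b (hinj x b hx.1 hab (ex.trans hkb.symm) ▸ hx.2)
  have hl30 : l = 30 := by
    by_cases hl111 : l = 111
    · exfalso
      have hm0 : m = 0 := by rw [hl111] at hcount; omega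
      let C : Ω → Finset Ω := fun x => insert x (Finset.univ.filter (R x))
      have hCcard : ∀ x, (C x).card = 113 := fun x => by
        rw [Finset.card_insert_of_notMem (by simp [hirr x]), hdeg]
      have hno : ∀ x y z, R x z → R y z → x = y ∨ R x y := fun x y z h1 h2 => by
        by_contra hh
        push Not at hh
        have := hnadj x y hh.1 hh.2
        rw [hm0, Finset.card_eq_zero] at this
        exact Finset.notMem_empty z (this ▸ Finset.mem_filter.mpr ⟨Finset.mem_univ z, h1, h2⟩)
      have hclosed : ∀ x y, y ∈ C x → C y = C x := fun x y hy => by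
        refine Finset.eq_of_subset_of_card_le (fun z hz => ?_) (by rw [hCcard, hCcard])
        simp only [C, Finset.mem_insert, Finset.mem_filter, Finset.mem_univ, true_and] at hy hz ⊢
        rcases hy with rfl | hy
        · exact hz
        rcases hz with rfl | hz
        · exact Or.inr hy
        rcases hno z x y (hsymm y z hz) hy with rfl | h
        · exact Or.inl rfl
        · exact Or.inr (hsymm z x h)
      have hsum := Finset.card_eq_sum_card_image C (Finset.univ : Finset Ω)
      have hfib : ∀ D ∈ Finset.univ.image C, (Finset.univ.filter fun x => C x = D).card = 113 := fun D hD => by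
        obtain ⟨x, -, rfl⟩ := Finset.mem_image.mp hD
        rw [← hCcard x]
        congr 1
        ext y
        simp only [Finset.mem_filter, Finset.mem_univ, true_and]
        exact ⟨fun h => h ▸ Finset.mem_insert_self _ _, hclosed x y⟩
      rw [Finset.card_univ, hΩ, Finset.sum_congr rfl hfib, Finset.sum_const, smul_eq_mul] at hsum
      omega
    rcases hTparts 1 (by norm_num) with x1 | ⟨-, x1⟩ <;> rcases hTparts 2 (by norm_num) with x2 | ⟨-, x2⟩ <;>
      rcases hTparts 3 (by norm_num) with x3 | ⟨-, x3⟩ <;>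
      simp (config := { failIfUnchanged := false }) only [List.getD_cons_succ, List.getD_cons_zero] at x1 x2 x3 <;>
      omega
  have hm56 : m = 56 := by rw [hl30] at hcount; omega
  have hTk : T = nb 0 ∩ nb k0v := by
    have h12 : orbP 1 ⊆ T ∧ orbP 2 ⊆ T := by
      rcases hTparts 1 (by norm_num) with x1 | ⟨s1, x1⟩ <;> rcases hTparts 2 (by norm_num) with x2 | ⟨s2, x2⟩ <;>
        rcases hTparts 3 (by norm_num) with x3 | ⟨-, x3⟩ <;>
        simp (config := { failIfUnchanged := false }) only [List.getD_cons_succ, List.getD_cons_zero] at x1 x2 x3 <;>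
        first | omega | exact ⟨s1, s2⟩
    rw [← orbP_nb]
    refine (Finset.eq_of_subset_of_card_le (Finset.union_subset h12.1 h12.2) ?_).symm
    rw [orbP_nb, card_near_near k0v_adj, hTc, hl30]
  have hiffN : ∀ x y, R a x → R a y → (R x y ↔ Adj (φ x) (φ y)) := fun x y hx hy => by
    obtain ⟨s, rfl⟩ := hlift x hx
    obtain ⟨y', rfl⟩ : ∃ y', s • y' = y := ⟨s⁻¹ • y, smul_inv_smul s y⟩
    rw [hRa] at hy
    rw [hfix, hφ, hφeq s y' hy]
    show R b y' ↔ Adj ((ι s).1 k0v) ((ι s).1 (φ y'))
    rw [aut_adj (W_aut (ι s).2)]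
    constructor
    · intro hr
      have : φ y' ∈ T := Finset.mem_image.mpr ⟨y', by simp [hy, hr], rfl⟩
      rw [hTk] at this
      exact mem_nb.mp (Finset.mem_inter.mp this).2
    · intro hA
      have : φ y' ∈ T := by rw [hTk]; exact Finset.mem_inter.mpr ⟨mem_nb.mpr (hnear y' hy), mem_nb.mpr hA⟩
      obtain ⟨z, hz, ez⟩ := Finset.mem_image.mp this
      simp only [Finset.mem_filter, Finset.mem_univ, true_and] at hz
      exact hinj z y' hz.1 hy ez ▸ hz.2
  have hloc : Local R a φ :=
    { card := hΩ
      symm := hsymm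
      irrefl := hirr
      deg := hdeg
      lam := fun x y h => (hadj x y h).trans hl30
      mu := fun x y hne h => (hnadj x y hne h).trans hm56
      near := hnear
      inj := hinj
      iff := hiffN }
  have htr_smul : ∀ (s : S) (x : Ω), traceR R a φ (s • x) = (traceR R a φ x).image (ι s).1 := fun s x => by
    ext v
    simp only [traceR, Finset.mem_image, Finset.mem_filter, Finset.mem_univ, true_and]
    constructor
    · rintro ⟨z, ⟨hz, hr⟩, rfl⟩
      obtain ⟨z, rfl⟩ : ∃ z', s • z' = z := ⟨s⁻¹ • z, smul_inv_smul s z⟩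
      rw [hRa] at hz
      exact ⟨φ z, ⟨z, ⟨hz, (hfix s x z).mp hr⟩, rfl⟩, (hφeq s z hz).symm⟩
    · rintro ⟨_, ⟨z, ⟨hz, hr⟩, rfl⟩, rfl⟩
      exact ⟨s • z, ⟨(hRa s z).mpr hz, (hfix s x z).mpr hr⟩, hφeq s z hz⟩
  obtain ⟨h56, hlines⟩ := hloc.hemi_trace hca hac
  obtain ⟨j, hj, k, hk, hjk⟩ := hemi h56 hlines
  obtain ⟨Θ, hΘ⟩ := hloc.exists_iso ⟨j, hj, fun k' hk' => by
    obtain ⟨w1, hw1, e1⟩ := cls_trans hj hk
    obtain ⟨w2, hw2, e2⟩ := cls_trans hj hk'
    obtain ⟨s, hs⟩ := ι.surjective ⟨w2 * w1⁻¹, mul_mem hw2 (inv_mem hw1)⟩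
    refine ⟨s • c, fun h => hca (MulAction.injective s (h.trans (hSa s).symm)), fun h => hac ((hRa s c).mp h), ?_⟩
    rw [htr_smul, hjk, hs, ← e1, Finset.image_image, ← e2]
    congr 1
    funext v
    show (w2 * w1⁻¹) (w1 v) = w2 v
    exact congrArg w2 (w1.symm_apply_apply v)⟩
  -- the group inside the automorphisms of the model
  have hmem : ∀ g : G, (Θ.symm.trans ((g : Equiv.Perm Ω).trans Θ) : Equiv.Perm V) ∈ AutG := fun g i i' => by
    show Adj (Θ ((g : Equiv.Perm Ω) (Θ.symm i))) (Θ ((g : Equiv.Perm Ω) (Θ.symm i'))) ↔ Adj i i'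
    rw [← hΘ]
    show R (g • Θ.symm i) (g • Θ.symm i') ↔ _
    rw [hiff, hΘ, Θ.apply_symm_apply, Θ.apply_symm_apply]
  let act : G →* AutG :=
    { toFun := fun g => ⟨_, hmem g⟩
      map_one' := Subtype.ext (Equiv.ext fun i => Θ.apply_symm_apply i)
      map_mul' := fun g h => Subtype.ext (Equiv.ext fun i => by
        show Θ ((g : Equiv.Perm Ω) ((h : Equiv.Perm Ω) (Θ.symm i))) =
          Θ ((g : Equiv.Perm Ω) (Θ.symm (Θ ((h : Equiv.Perm Ω) (Θ.symm i)))))
        rw [Θ.symm_apply_apply]) }
  have hact : Function.Injective act := fun g h he => by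
    refine Subtype.ext (Equiv.ext fun x => Θ.injective ?_)
    have := congrArg (fun q : AutG => (q : Equiv.Perm V) (Θ x)) he
    simpa [act] using this
  have hcS : Nat.card S = 3265920 := (Nat.card_congr e.toEquiv).trans (U43Mult.psu_card hK)
  have hGcard : Nat.card G = 898128000 := by
    rw [← S.card_mul_index, MulAction.index_stabilizer_of_transitive, Nat.card_eq_fintype_card (α := Ω), hΩ, hcS]
  -- perfectness
  have hperf : commutator G = ⊤ := by
    have hPSU : commutator (PSU 4 K 3) = ⊤ := by
      refine ((inferInstance : (commutator (PSU 4 K 3)).Normal).eq_bot_or_eq_top).resolve_left fun h => ?_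
      haveI : IsMulCommutative (PSU 4 K 3) := (commutator_eq_bot_iff _).mp h
      letI : CommGroup (PSU 4 K 3) := { (inferInstance : Group (PSU 4 K 3)) with mul_comm := mul_comm' }
      have hp : (Nat.card (PSU 4 K 3)).Prime := IsSimpleGroup.prime_card
      rw [U43Mult.psu_card hK] at hp
      norm_num at hp
    have hSle : S ≤ commutator G := by
      have h1 : (commutator (PSU 4 K 3)).map (S.subtype.comp e.symm.toMonoidHom) ≤ commutator G := by
        rw [commutator_def, commutator_def, Subgroup.map_commutator]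
        exact Subgroup.commutator_mono le_top le_top
      rw [hPSU] at h1
      intro g hg
      exact h1 ⟨e ⟨g, hg⟩, trivial, by simp⟩
    have hblock := MulAction.IsBlock.orbit_of_normal (G := G) (N := commutator G) a
    have hdvd := hblock.ncard_dvd_card ⟨a, MulAction.mem_orbit_self a⟩
    rw [Nat.card_eq_fintype_card, hΩ] at hdvd
    set O := MulAction.orbit (commutator G) a with hO
    have hOinv : ∀ (s : S) (x : Ω), x ∈ O → s • x ∈ O := fun s x ⟨d, hd⟩ => by
      refine ⟨⟨s.1, hSle s.2⟩ * d, ?_⟩
      show (⟨s.1, hSle s.2⟩ * d : commutator G) • a = s • x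
      rw [mul_smul, show d • a = x from hd]
      rfl
    have hOb : b ∈ O → MulAction.orbit S b ⊆ O := fun h y ⟨s, hs⟩ => hs ▸ hOinv s b h
    have hOc : c ∈ O → MulAction.orbit S c ⊆ O := fun h y ⟨s, hs⟩ => hs ▸ hOinv s c h
    have hcase : O = Set.univ := by
      by_cases hbO : b ∈ O
      · by_cases hcO : c ∈ O
        · refine Set.eq_univ_iff_forall.mpr fun y => ?_
          rcases horbit y with rfl | h | h
          exacts [MulAction.mem_orbit_self _, hOb hbO h, hOc hcO h]
        · exfalso
          have : O = insert a (MulAction.orbit S b) := by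
            refine Set.Subset.antisymm (fun y hy => ?_) (Set.insert_subset (MulAction.mem_orbit_self _) (hOb hbO))
            rcases horbit y with rfl | h | h
            · exact Set.mem_insert _ _
            · exact Set.mem_insert_of_mem _ h
            · obtain ⟨s, hs⟩ := h
              exact absurd (by simpa [← hs] using hOinv s⁻¹ y hy) hcO
          rw [this, Set.ncard_insert_of_notMem (fun h => hirr a ((hNa a).mpr h)), hb] at hdvd
          norm_num at hdvd
      · exfalso
        by_cases hcO : c ∈ O
        · have : O = insert a (MulAction.orbit S c) := by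
            refine Set.Subset.antisymm (fun y hy => ?_) (Set.insert_subset (MulAction.mem_orbit_self _) (hOc hcO))
            rcases horbit y with rfl | h | h
            · exact Set.mem_insert _ _
            · obtain ⟨s, hs⟩ := h
              exact absurd (by simpa [← hs] using hOinv s⁻¹ y hy) hbO
            · exact Set.mem_insert_of_mem _ h
          rw [this, Set.ncard_insert_of_notMem (fun h => by
            rw [← MulAction.orbit_eq_iff, hsing] at h
            rw [← h, Set.ncard_singleton] at hc; omega), hc] at hdvd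
          norm_num at hdvd
        · have hall : ∀ y, y ∈ O → y = a := fun y hy => by
            rcases horbit y with h | h | h
            · exact h
            · obtain ⟨s, hs⟩ := h
              exact absurd (by simpa [← hs] using hOinv s⁻¹ y hy) hbO
            · obtain ⟨s, hs⟩ := h
              exact absurd (by simpa [← hs] using hOinv s⁻¹ y hy) hcO
          -- the commutator subgroup would fix every point
          have heq : commutator G = S := le_antisymm (fun d hd => hall _ ⟨⟨d, hd⟩, rfl⟩) hSle
          obtain ⟨g, hg⟩ := MulAction.exists_smul_eq G a b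
          have hbfix : ∀ s : S, s • b = b := fun s => by
            have h1 : g⁻¹ * s.1 * g⁻¹⁻¹ ∈ commutator G :=
              (inferInstance : (commutator G).Normal).conj_mem _ (hSle s.2) g⁻¹
            rw [heq, inv_inv] at h1
            have h2 : (g⁻¹ * s.1 * g) • a = a := h1
            rw [mul_smul, hg, mul_smul, inv_smul_eq_iff, hg] at h2
            exact h2
          have : MulAction.orbit S b = {b} := Set.eq_singleton_iff_unique_mem.mpr
            ⟨MulAction.mem_orbit_self _, fun y ⟨s, hs⟩ => hs ▸ hbfix s⟩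
          rw [this, Set.ncard_singleton] at hb
          omega
    rw [eq_top_iff]
    intro g _
    obtain ⟨d, hd⟩ : g • a ∈ O := hcase ▸ Set.mem_univ _
    have : (d : G)⁻¹ * g ∈ S := by
      show ((d : G)⁻¹ * g) • a = a
      rw [mul_smul, inv_smul_eq_iff]
      exact hd.symm
    have h2 := mul_mem d.2 (hSle this)
    rwa [mul_inv_cancel_left] at h2
  obtain ⟨eG⟩ := iso_of_action G hperf hGcard act hact
  obtain ⟨eM⟩ := iso_M
  exact ⟨eG.trans eM.symm⟩

end CfsgLib.McLRecog
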